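import Groth.Agent.Lib.Helper16.KGr.Key
import Mathlib.RingTheory.Localization.BaseChange

/-!
# The Chern character `ℚ ⊗ K → ℚGr K` is bijective (helper16)
-/

set_option autoImplicit false
universe v

open scoped TensorProduct
open LaurentPolynomial LambdaRing Finset

namespace Groth.Agent.Lib.Helper16.KGr

open Groth.Agent.Lib.Helper44
open Groth.Agent.Lib.Helper41.AdamsGamma

section Loc

variable {M : Type*} [AddCommGroup M]

theorem exists_zsmul_eq_tmul (v : ℚ ⊗[ℤ] M) :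
    ∃ (s : ℤ) (x : M), s ≠ 0 ∧ s • v = (1 : ℚ) ⊗ₜ[ℤ] x := by
  obtain ⟨⟨x, s⟩, h⟩ := IsLocalizedModule.surj (nonZeroDivisors ℤ) (TensorProduct.mk ℤ ℚ M 1) v
  exact ⟨s, x, nonZeroDivisors.ne_zero s.2, h⟩

theorem one_tmul_eq_zero_iff (x : M) :
    (1 : ℚ) ⊗ₜ[ℤ] x = 0 ↔ ∃ s : ℤ, s ≠ 0 ∧ s • x = 0 := by
  have := IsLocalizedModule.eq_zero_iff (nonZeroDivisors ℤ) (TensorProduct.mk ℤ ℚ M 1) (m := x)
  constructor
  · intro h
    obtain ⟨s, hs⟩ := this.mp h
    exact ⟨s, nonZeroDivisors.ne_zero s.2, hs⟩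
  · rintro ⟨s, hs0, hs⟩
    exact this.mpr ⟨⟨s, mem_nonZeroDivisors_of_ne_zero hs0⟩, hs⟩

end Loc

variable {K : Type v} [CommRing K] [LambdaOps K] (P : PosStructure K)

/-- The Chern character as an additive map. -/
noncomputable def chHom (d : ℕ) : K →+ KGr.Gr P where
  toFun := KGr.chK P d
  map_zero' := by
    have := chK_add P d 0 0
    rw [add_zero] at this
    exact left_eq_add.mp this
  map_add' := chK_add P d

theorem chHom_apply (d : ℕ) (x : K) : chHom P d x = KGr.chK P d x := rfl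

/-- The rational Chern character `ℚ ⊗ K → ℚGr K`. -/
noncomputable def chLin (d : ℕ) : ℚ ⊗[ℤ] K →ₗ[ℚ] KGr.Gr P :=
  LinearMap.liftBaseChange ℚ (chHom P d).toIntLinearMap

theorem chLin_tmul (d : ℕ) (q : ℚ) (x : K) : chLin P d (q ⊗ₜ[ℤ] x) = q • KGr.chK P d x := by
  rw [chLin, LinearMap.liftBaseChange_tmul]
  rfl

theorem chLin_one_tmul (d : ℕ) (x : K) : chLin P d ((1 : ℚ) ⊗ₜ[ℤ] x) = KGr.chK P d x := by
  rw [chLin_tmul, one_smul]

/-- The `m`-th graded component on `Gr P`. -/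
noncomputable def rho (m : ℕ) : KGr.Gr P →ₗ[ℚ] ℚ ⊗[ℤ] (K ⧸ gammaFiltration P (m + 1)) :=
  (piZ P m).toIntLinearMap.baseChange ℚ

theorem rho_tmul (m : ℕ) (q : ℚ) (g : KGr.GrZ P) : rho P m (q ⊗ₜ[ℤ] g) = q ⊗ₜ[ℤ] piZ P m g := by
  rw [rho, LinearMap.baseChange_tmul]
  rfl

/-- The degree-`j` term of the Chern character. -/
noncomputable def chTerm (j : ℕ) (x : K) : KGr.Gr P :=
  (1 / (j.factorial : ℚ)) • ((1 : ℚ) ⊗ₜ[ℤ] grZ P j ⟨nu P j x, nu_mem P j x⟩)

theorem algebraMap_aug_eq (x : K) :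
    algebraMap ℚ (KGr.Gr P) (P.aug x : ℚ) =
      (1 : ℚ) ⊗ₜ[ℤ] grZ P 0 ⟨x, one_mem_gammaFiltration_zero P x⟩ := by
  rw [grZ_zero_eq, TensorProduct.tmul_smul, Algebra.TensorProduct.algebraMap_apply,
    TensorProduct.smul_tmul', zsmul_eq_mul, mul_one]
  rfl

theorem chK_eq_sum (d : ℕ) (x : K) :
    KGr.chK P d x = (1 : ℚ) ⊗ₜ[ℤ] grZ P 0 ⟨x, one_mem_gammaFiltration_zero P x⟩ +
      ∑ k ∈ range d, chTerm P (k + 1) x := by
  rw [chK_eq, algebraMap_aug_eq]
  rfl

variable {P}

theorem one_tmul_grZ_zero_eq_zero {n : ℕ} (hn : 1 ≤ n) {x : K}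
    (hx : x ∈ gammaFiltration P n) :
    (1 : ℚ) ⊗ₜ[ℤ] grZ P 0 ⟨x, one_mem_gammaFiltration_zero P x⟩ = (0 : KGr.Gr P) := by
  rw [grZ_eq_zero P 0 _ (gammaFiltration_antitone P (by omega) hx), TensorProduct.tmul_zero]

theorem chTerm_of_lt (hK : HasSplitting K P) {n j : ℕ} (hj : 1 ≤ j) (hjn : j < n) {x : K}
    (hx : x ∈ gammaFiltration P n) : chTerm P j x = 0 := by
  rw [chTerm, grZ_nu_of_lt hK hj hjn hx, TensorProduct.tmul_zero, smul_zero]

theorem chTerm_self (hK : HasSplitting K P) {n : ℕ} (hn : 1 ≤ n) {x : K}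
    (hx : x ∈ gammaFiltration P n) : chTerm P n x = (1 : ℚ) ⊗ₜ[ℤ] grZ P n ⟨x, hx⟩ := by
  rw [chTerm, grZ_nu_self hK hn hx, TensorProduct.tmul_smul, ← Int.cast_smul_eq_zsmul ℚ, smul_smul]
  have : (n.factorial : ℚ) ≠ 0 := by positivity
  have h1 : (1 / (n.factorial : ℚ)) * ((n.factorial : ℤ) : ℚ) = 1 := by
    push_cast
    field_simp
  rw [h1, one_smul]

theorem rho_chTerm_of_ne (m j : ℕ) (hjm : j ≠ m) (x : K) : rho P m (chTerm P j x) = 0 := by
  rw [chTerm, map_smul, rho_tmul, piZ_grZ, if_neg hjm, TensorProduct.tmul_zero, smul_zero]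

/-- (C1) the components of `ch(x)` below the filtration degree of `x` vanish. -/
theorem rho_chK_of_lt (hK : HasSplitting K P) (d : ℕ) {n m : ℕ} (hmn : m < n) {x : K}
    (hx : x ∈ gammaFiltration P n) : rho P m (KGr.chK P d x) = 0 := by
  rw [chK_eq_sum, map_add, one_tmul_grZ_zero_eq_zero (by omega) hx, map_zero, zero_add, map_sum]
  refine Finset.sum_eq_zero fun k _ => ?_
  rcases Nat.lt_or_ge (k + 1) n with h | h
  · rw [chTerm_of_lt hK (by omega) h hx, map_zero]
  · exact rho_chTerm_of_ne m (k + 1) (by omega) x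

/-- (C2) the leading component of `ch(x)` for `x ∈ F^m` is the class of `x`. -/
theorem rho_chK_self (hK : HasSplitting K P) (d : ℕ) {m : ℕ} (hmd : m ≤ d) {x : K}
    (hx : x ∈ gammaFiltration P m) :
    rho P m (KGr.chK P d x) = (1 : ℚ) ⊗ₜ[ℤ] (QuotientAddGroup.mk x : K ⧸ gammaFiltration P (m + 1)) := by
  rw [chK_eq_sum, map_add, map_sum]
  rcases Nat.eq_zero_or_pos m with rfl | hm
  · rw [Finset.sum_eq_zero fun k _ => rho_chTerm_of_ne 0 (k + 1) (by omega) x, add_zero, rho_tmul,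
      piZ_grZ, if_pos rfl]
  · rw [one_tmul_grZ_zero_eq_zero hm hx, map_zero, zero_add,
      Finset.sum_eq_single_of_mem (m - 1) (Finset.mem_range.mpr (by omega))
        (fun k _ hk => rho_chTerm_of_ne m (k + 1) (by omega) x),
      Nat.sub_add_cancel hm, chTerm_self hK hm hx, rho_tmul, piZ_grZ, if_pos rfl]

/-- Every class `[y]_n`, `y ∈ F^n`, lies in the image of the rational Chern character. -/
theorem one_tmul_grZ_mem_range (hK : HasSplitting K P) (d : ℕ)
    (hd : gammaFiltration P (d + 1) = ⊥) :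
    ∀ (j n : ℕ), d + 1 ≤ n + j → ∀ (y : K) (hy : y ∈ gammaFiltration P n),
      (1 : ℚ) ⊗ₜ[ℤ] grZ P n ⟨y, hy⟩ ∈ LinearMap.range (chLin P d) := by
  have hzero : ∀ (n : ℕ), d + 1 ≤ n → ∀ (y : K) (hy : y ∈ gammaFiltration P n),
      (1 : ℚ) ⊗ₜ[ℤ] grZ P n ⟨y, hy⟩ ∈ LinearMap.range (chLin P d) := by
    intro n hn y hy
    have h0 : y = 0 := by
      have := gammaFiltration_antitone P hn hy
      rw [hd] at this
      exact this
    subst h0
    have : (⟨0, hy⟩ : gammaFiltration P n) = 0 := rfl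
    rw [this, map_zero, TensorProduct.tmul_zero]
    exact Submodule.zero_mem _
  intro j
  induction j with
  | zero => intro n hn y hy; exact hzero n (by omega) y hy
  | succ j ih =>
    intro n hn y hy
    rcases Nat.lt_or_ge d n with hdn | hnd
    · exact hzero n (by omega) y hy
    have hch : KGr.chK P d y ∈ LinearMap.range (chLin P d) := ⟨_, chLin_one_tmul P d y⟩
    have hterm : ∀ k, n < k + 1 → chTerm P (k + 1) y ∈ LinearMap.range (chLin P d) := by
      intro k hk
      exact Submodule.smul_mem _ _ (ih (k + 1) (by omega) _ _)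
    rw [chK_eq_sum] at hch
    rcases Nat.eq_zero_or_pos n with rfl | hn1
    · have hsum : ∑ k ∈ range d, chTerm P (k + 1) y ∈ LinearMap.range (chLin P d) :=
        Submodule.sum_mem _ fun k _ => hterm k (by omega)
      have := Submodule.sub_mem _ hch hsum
      rwa [add_sub_cancel_right] at this
    · rw [one_tmul_grZ_zero_eq_zero hn1 hy, zero_add,
        ← Finset.add_sum_erase _ _ (Finset.mem_range.mpr (show n - 1 < d by omega)),
        Nat.sub_add_cancel hn1, chTerm_self hK hn1 hy] at hch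
      have hsum : ∑ k ∈ (range d).erase (n - 1), chTerm P (k + 1) y ∈ LinearMap.range (chLin P d) := by
        refine Submodule.sum_mem _ fun k hk => ?_
        have hne := (Finset.mem_erase.mp hk).1
        rcases Nat.lt_or_ge (k + 1) n with h | h
        · rw [chTerm_of_lt hK (by omega) h hy]
          exact Submodule.zero_mem _
        · exact hterm k (by omega)
      have := Submodule.sub_mem _ hch hsum
      rwa [add_sub_cancel_right] at this

theorem chLin_surjective (hK : HasSplitting K P) (d : ℕ) (hd : gammaFiltration P (d + 1) = ⊥) :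
    Function.Surjective (chLin P d) := by
  intro g
  rw [← LinearMap.mem_range]
  induction g using Gr_induction P with
  | zero => exact Submodule.zero_mem _
  | add a b ha hb => exact Submodule.add_mem _ ha hb
  | smul q a ha => exact Submodule.smul_mem _ q ha
  | gr n x => exact one_tmul_grZ_mem_range hK d hd (d + 1) n (by omega) x.1 x.2

theorem chLin_injective (hK : HasSplitting K P) (d : ℕ) (hd : gammaFiltration P (d + 1) = ⊥) :
    Function.Injective (chLin P d) := by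
  rw [injective_iff_map_eq_zero]
  intro v hv
  obtain ⟨s, x, hs, hsv⟩ := exists_zsmul_eq_tmul v
  have hx : KGr.chK P d x = 0 := by
    rw [← chLin_one_tmul, ← hsv, map_zsmul, hv, smul_zero]
  have key : ∀ n : ℕ, n ≤ d + 1 → ∃ M : ℤ, M ≠ 0 ∧ M • x ∈ gammaFiltration P n := by
    intro n
    induction n with
    | zero => intro _; exact ⟨1, one_ne_zero, one_mem_gammaFiltration_zero P _⟩
    | succ n ih =>
      intro hn
      obtain ⟨M, hM, hMx⟩ := ih (by omega)
      have hz : KGr.chK P d (M • x) = 0 := by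
        rw [← chHom_apply, map_zsmul, chHom_apply, hx, smul_zero]
      have h1 := rho_chK_self hK d (show n ≤ d by omega) hMx
      rw [hz, map_zero] at h1
      obtain ⟨s', hs', h2⟩ := (one_tmul_eq_zero_iff _).mp h1.symm
      refine ⟨s' * M, mul_ne_zero hs' hM, ?_⟩
      rw [mul_smul]
      rw [← QuotientAddGroup.mk_zsmul] at h2
      exact (QuotientAddGroup.eq_zero_iff _).mp h2
  obtain ⟨M, hM, hMx⟩ := key (d + 1) le_rfl
  rw [hd] at hMx
  have h3 : (1 : ℚ) ⊗ₜ[ℤ] x = 0 := (one_tmul_eq_zero_iff x).mpr ⟨M, hM, hMx⟩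
  rw [h3] at hsv
  have h4 : (s : ℚ) • v = 0 := by rw [Int.cast_smul_eq_zsmul]; exact hsv
  exact (smul_eq_zero.mp h4).resolve_left (by exact_mod_cast hs)

/-- **The rational Chern character is bijective.** -/
theorem chLin_bijective (hK : HasSplitting K P) (d : ℕ) (hd : gammaFiltration P (d + 1) = ⊥) :
    Function.Bijective (chLin P d) :=
  ⟨chLin_injective hK d hd, chLin_surjective hK d hd⟩

end Groth.Agent.Lib.Helper16.KGr
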