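import Mathlib.Algebra.Group.ForwardDiff
import Mathlib.Data.Nat.Choose.Sum
import Mathlib.Algebra.Group.Subgroup.Finite

/-!
# Leibniz rule for finite differences modulo a multiplicative filtration (helper16)

For a commutative ring `A` with a decreasing multiplicative filtration `F` by additive subgroups, and
sequences `f, g : ℕ → A` such that `Δ^j f (i) ∈ F (m + j)`, `Δ^j g (i) ∈ F (n + j)` for all `i, j`:
`Δ^k (f g)(i) ≡ Σ_{a+b=k} C(k,a) Δ^a f(i) Δ^b g(i)  mod F (m + n + k + 1)`.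
-/

set_option autoImplicit false

open Finset
open fwdDiff

namespace Groth.Agent.Lib.Helper16.KGr

variable {A : Type*} [CommRing A]

/-- A decreasing multiplicative filtration by additive subgroups. -/
structure MulFil (F : ℕ → AddSubgroup A) : Prop where
  anti : ∀ {a b : ℕ}, a ≤ b → F b ≤ F a
  mul : ∀ {a b : ℕ} {x y : A}, x ∈ F a → y ∈ F b → x * y ∈ F (a + b)

/-- `f` has weight `m`: `Δ^j f (i) ∈ F (m + j)` for all `i, j`. -/
def HasWt (F : ℕ → AddSubgroup A) (m : ℕ) (f : ℕ → A) : Prop :=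
  ∀ j i : ℕ, (Δ_[1]^[j] f) i ∈ F (m + j)

variable {F : ℕ → AddSubgroup A}

theorem HasWt.fwdDiff {m : ℕ} {f : ℕ → A} (hf : HasWt F m f) : HasWt F (m + 1) (Δ_[1] f) := by
  intro j i
  have := hf (j + 1) i
  rw [Function.iterate_succ_apply] at this
  rwa [show m + 1 + j = m + (j + 1) by omega]

theorem iter_shift (f : ℕ → A) (j i : ℕ) :
    (Δ_[1]^[j] (fun r => f (r + 1))) i = (Δ_[1]^[j] f) (i + 1) :=
  fwdDiff_iter_comp_add 1 f 1 j i

theorem HasWt.shift {m : ℕ} {f : ℕ → A} (hf : HasWt F m f) : HasWt F m (fun r => f (r + 1)) := by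
  intro j i
  rw [iter_shift]
  exact hf j (i + 1)

theorem iter_shift_eq_add (f : ℕ → A) (j i : ℕ) :
    (Δ_[1]^[j] (fun r => f (r + 1))) i = (Δ_[1]^[j] f) i + (Δ_[1]^[j + 1] f) i := by
  rw [iter_shift, Function.iterate_succ_apply']
  show _ = _ + ((Δ_[1]^[j] f) (i + 1) - (Δ_[1]^[j] f) i)
  ring

theorem fwdDiff_mul (f g : ℕ → A) :
    Δ_[1] (f * g) = Δ_[1] f * g + (fun r => f (r + 1)) * Δ_[1] g := by
  funext i
  simp only [_root_.fwdDiff, Pi.mul_apply, Pi.add_apply]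
  ring

/-- **Leibniz rule for finite differences modulo the filtration.** -/
theorem fwdDiff_iter_mul_sub_mem (hF : MulFil F) :
    ∀ (k : ℕ) {m n : ℕ} {f g : ℕ → A}, HasWt F m f → HasWt F n g → ∀ i : ℕ,
      (Δ_[1]^[k] (f * g)) i -
        ∑ ab ∈ antidiagonal k, (k.choose ab.1 : A) * ((Δ_[1]^[ab.1] f) i * (Δ_[1]^[ab.2] g) i) ∈
          F (m + n + k + 1) := by
  intro k
  induction k with
  | zero =>
    intro m n f g _ _ i
    simp
  | succ k ih =>
    intro m n f g hf hg i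
    have h1 := ih hf.fwdDiff hg i
    have h2 := ih hf.shift hg.fwdDiff i
    rw [Function.iterate_succ_apply, fwdDiff_mul, fwdDiff_iter_add, Pi.add_apply,
      sum_antidiagonal_choose_succ_mul (fun a b => (Δ_[1]^[a] f) i * (Δ_[1]^[b] g) i) k]
    -- the error term
    have h3 : ∑ ab ∈ antidiagonal k, (k.choose ab.1 : A) *
        ((Δ_[1]^[ab.1 + 1] f) i * (Δ_[1]^[ab.2 + 1] g) i) ∈ F (m + n + (k + 1) + 1) := by
      refine AddSubgroup.sum_mem _ fun ab hab => ?_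
      have hab' := mem_antidiagonal.mp hab
      rw [← nsmul_eq_mul]
      apply AddSubgroup.nsmul_mem
      exact hF.anti (by omega) (hF.mul (hf (ab.1 + 1) i) (hg (ab.2 + 1) i))
    have e : (Δ_[1]^[k] (Δ_[1] f * g)) i + (Δ_[1]^[k] ((fun r => f (r + 1)) * Δ_[1] g)) i -
        (∑ ab ∈ antidiagonal k, (k.choose ab.1 : A) * ((Δ_[1]^[ab.1] f) i * (Δ_[1]^[ab.2 + 1] g) i) +
          ∑ ab ∈ antidiagonal k, (k.choose ab.2 : A) * ((Δ_[1]^[ab.1 + 1] f) i * (Δ_[1]^[ab.2] g) i)) =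
        ((Δ_[1]^[k] (Δ_[1] f * g)) i -
          ∑ ab ∈ antidiagonal k, (k.choose ab.1 : A) *
            ((Δ_[1]^[ab.1] (Δ_[1] f)) i * (Δ_[1]^[ab.2] g) i)) +
        ((Δ_[1]^[k] ((fun r => f (r + 1)) * Δ_[1] g)) i -
          ∑ ab ∈ antidiagonal k, (k.choose ab.1 : A) *
            ((Δ_[1]^[ab.1] (fun r => f (r + 1))) i * (Δ_[1]^[ab.2] (Δ_[1] g)) i)) +
        ∑ ab ∈ antidiagonal k, (k.choose ab.1 : A) *
          ((Δ_[1]^[ab.1 + 1] f) i * (Δ_[1]^[ab.2 + 1] g) i) := by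
      have e1 : ∑ ab ∈ antidiagonal k, (k.choose ab.2 : A) *
          ((Δ_[1]^[ab.1 + 1] f) i * (Δ_[1]^[ab.2] g) i) =
          ∑ ab ∈ antidiagonal k, (k.choose ab.1 : A) *
            ((Δ_[1]^[ab.1] (Δ_[1] f)) i * (Δ_[1]^[ab.2] g) i) := by
        refine Finset.sum_congr rfl fun ab hab => ?_
        have hab' := mem_antidiagonal.mp hab
        rw [Nat.choose_symm_of_eq_add hab'.symm, ← Function.iterate_succ_apply]
      have e2 : ∑ ab ∈ antidiagonal k, (k.choose ab.1 : A) *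
          ((Δ_[1]^[ab.1] (fun r => f (r + 1))) i * (Δ_[1]^[ab.2] (Δ_[1] g)) i) =
          ∑ ab ∈ antidiagonal k, (k.choose ab.1 : A) * ((Δ_[1]^[ab.1] f) i * (Δ_[1]^[ab.2 + 1] g) i) +
          ∑ ab ∈ antidiagonal k, (k.choose ab.1 : A) *
            ((Δ_[1]^[ab.1 + 1] f) i * (Δ_[1]^[ab.2 + 1] g) i) := by
        rw [← Finset.sum_add_distrib]
        refine Finset.sum_congr rfl fun ab _ => ?_
        rw [iter_shift_eq_add, ← Function.iterate_succ_apply]
        ring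
      rw [e1, e2]
      ring
    rw [e]
    refine AddSubgroup.add_mem _ (AddSubgroup.add_mem _ ?_ ?_) h3
    · rwa [show m + n + (k + 1) + 1 = m + 1 + n + k + 1 by omega]
    · rwa [show m + n + (k + 1) + 1 = m + (n + 1) + k + 1 by omega]

/-- Gregory–Newton: weight at `0` propagates to all arguments. -/
theorem hasWt_of_zero (hF : MulFil F) {m : ℕ} {f : ℕ → A}
    (h : ∀ j : ℕ, (Δ_[1]^[j] f) 0 ∈ F (m + j)) : HasWt F m f := by
  intro j i
  have := shift_eq_sum_fwdDiff_iter (1 : ℕ) (Δ_[1]^[j] f) i 0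
  rw [zero_add, smul_eq_mul, mul_one] at this
  rw [this]
  refine AddSubgroup.sum_mem _ fun k _ => ?_
  apply AddSubgroup.nsmul_mem
  rw [← Function.iterate_add_apply]
  exact hF.anti (by omega) (h (k + j))

end Groth.Agent.Lib.Helper16.KGr
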