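import Groth.Agent.Lib.Helper16.KGr.Bij
import Groth.Agent.Lib.Helper16.KGr.FwdDiffMul

/-!
# The Chern character `K → ℚGr K` is multiplicative (helper16)
-/

set_option autoImplicit false
universe v

open scoped TensorProduct
open LaurentPolynomial LambdaRing Finset
open fwdDiff

namespace Groth.Agent.Lib.Helper16.KGr

open Groth.Agent.Lib.Helper44
open Groth.Agent.Lib.Helper41.AdamsGamma
open Groth.Agent.Lib.Helper16

section Abstract

variable {R S : Type*} [CommRing R] [CommRing S] [Algebra ℚ S] (φ : R →+* S)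

theorem abstract_term_mul (k : ℕ) (rk e : R) (rx ry : ℕ → R) (he : φ e = 0)
    (h : rk = e + ∑ ab ∈ antidiagonal k, (k.choose ab.1 : R) * (rx ab.1 * ry ab.2)) :
    (1 / (k.factorial : ℚ)) • φ rk = ∑ ab ∈ antidiagonal k,
      ((1 / (ab.1.factorial : ℚ)) • φ (rx ab.1)) * ((1 / (ab.2.factorial : ℚ)) • φ (ry ab.2)) := by
  rw [h, map_add, he, zero_add, map_sum, Finset.smul_sum]
  refine Finset.sum_congr rfl fun ab hab => ?_
  have hab' := mem_antidiagonal.mp hab
  rw [map_mul, map_mul, map_natCast, smul_mul_smul_comm, ← nsmul_eq_mul,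
    ← Nat.cast_smul_eq_nsmul ℚ, smul_smul]
  congr 1
  have h1 := Nat.add_choose_mul_factorial_mul_factorial ab.1 ab.2
  rw [hab', ← Nat.choose_symm_of_eq_add hab'.symm] at h1
  have h2 : ((k.choose ab.1 : ℕ) : ℚ) * (ab.1.factorial : ℚ) * (ab.2.factorial : ℚ) = (k.factorial : ℚ) := by
    exact_mod_cast h1
  have hk : (k.factorial : ℚ) ≠ 0 := by positivity
  have ha : (ab.1.factorial : ℚ) ≠ 0 := by positivity
  have hb : (ab.2.factorial : ℚ) ≠ 0 := by positivity
  field_simp
  linarith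

omit [Algebra ℚ S] in
theorem abstract_sum_mul (d : ℕ) (G Gx Gy : ℕ → S)
    (hG : ∀ k, G k = ∑ ab ∈ antidiagonal k, Gx ab.1 * Gy ab.2)
    (h0 : ∀ k, d < k → G k = 0) (hx : ∀ k, d < k → Gx k = 0) (hy : ∀ k, d < k → Gy k = 0) :
    ∑ k ∈ range (d + 1), G k = (∑ k ∈ range (d + 1), Gx k) * (∑ k ∈ range (d + 1), Gy k) := by
  let p : (ℕ → S) → Polynomial S := fun H => ∑ k ∈ range (d + 1), Polynomial.monomial k (H k)
  have hcoeff : ∀ (H : ℕ → S), (∀ k, d < k → H k = 0) → ∀ k, (p H).coeff k = H k := by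
    intro H hH k
    simp only [p, Polynomial.finsetSum_coeff, Polynomial.coeff_monomial]
    rw [Finset.sum_ite_eq' (range (d + 1)) k]
    split_ifs with hk
    · rfl
    · exact (hH k (by have := mt Finset.mem_range.mpr hk; omega)).symm
  have heval : ∀ H : ℕ → S, (p H).eval 1 = ∑ k ∈ range (d + 1), H k := by
    intro H
    simp only [p, Polynomial.eval_finsetSum, Polynomial.eval_monomial, one_pow, mul_one]
  have hmul : p G = p Gx * p Gy := by
    ext k
    rw [hcoeff G h0, Polynomial.coeff_mul, hG]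
    refine Finset.sum_congr rfl fun ab _ => ?_
    rw [hcoeff Gx hx, hcoeff Gy hy]
  rw [← heval G, ← heval Gx, ← heval Gy, hmul, Polynomial.eval_mul]

end Abstract

variable {K : Type v} [CommRing K] [LambdaOps K] (P : PosStructure K)

theorem mulFil_gammaFiltration : MulFil (gammaFiltration P) :=
  ⟨fun h => gammaFiltration_antitone P h, fun hx hy => mul_mem P hx hy⟩

/-- The sequence `i ↦ ψ^i(x)`. -/
noncomputable def adamsSeq (x : K) : ℕ → K := fun i => adams P i x

theorem fwdDiff_iter_adamsSeq_zero (j : ℕ) (x : K) :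
    ((fwdDiff 1)^[j] (adamsSeq P x)) 0 = adamsDiff P j x := by
  rw [fwdDiff_iter_eq_sum_shift, adamsDiff_apply]
  refine Finset.sum_congr rfl fun k _ => ?_
  rw [zero_add, smul_eq_mul, mul_one]
  rfl

variable {P}

theorem adamsDiff_mem (hK : HasSplitting K P) (j : ℕ) (x : K) :
    adamsDiff P j x ∈ gammaFiltration P j := by
  rcases Nat.eq_zero_or_pos j with rfl | hj
  · exact one_mem_gammaFiltration_zero P _
  · rw [← nu_eq_adamsDiff P hK j hj]
    exact nu_mem P j x

theorem hasWt_adamsSeq (hK : HasSplitting K P) (x : K) :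
    HasWt (gammaFiltration P) 0 (adamsSeq P x) := by
  apply hasWt_of_zero (mulFil_gammaFiltration P)
  intro j
  rw [fwdDiff_iter_adamsSeq_zero, zero_add]
  exact adamsDiff_mem hK j x

theorem adamsSeq_mul (hK : HasSplitting K P) (x y : K) :
    adamsSeq P (x * y) = adamsSeq P x * adamsSeq P y :=
  funext fun i => adams_mul P hK i x y

theorem adamsDiff_mul_sub_mem (hK : HasSplitting K P) (k : ℕ) (x y : K) :
    adamsDiff P k (x * y) -
      ∑ ab ∈ antidiagonal k, (k.choose ab.1 : K) * (adamsDiff P ab.1 x * adamsDiff P ab.2 y) ∈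
        gammaFiltration P (k + 1) := by
  have h := fwdDiff_iter_mul_sub_mem (mulFil_gammaFiltration P) k (hasWt_adamsSeq hK x)
    (hasWt_adamsSeq hK y) 0
  rw [← adamsSeq_mul hK, fwdDiff_iter_adamsSeq_zero, zero_add, zero_add] at h
  simp only [fwdDiff_iter_adamsSeq_zero] at h
  exact h

/-- The homogeneous element `Δ^kψ(x) t^{-k}` of the Rees ring. -/
noncomputable def rTerm (hK : HasSplitting K P) (k : ℕ) (x : K) : KGr.rees P :=
  ⟨C (adamsDiff P k x) * T (-(k : ℤ)), monomial_mem_rees' P (adamsDiff_mem hK k x)⟩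

/-- The degree-`k` part of the Chern character. -/
noncomputable def gTerm (hK : HasSplitting K P) (k : ℕ) (x : K) : KGr.Gr P :=
  (1 / (k.factorial : ℚ)) • toGr P (rTerm hK k x)

theorem toGr_eq_zero_of_mem (n : ℕ) (w : K) (hw : w ∈ gammaFiltration P (n + 1))
    (h : C w * T (-(n : ℤ)) ∈ KGr.rees P) : toGr P ⟨C w * T (-(n : ℤ)), h⟩ = 0 := by
  have := toGr_monomial P n w (gammaFiltration_antitone P (Nat.le_succ n) hw)
  rw [grZ_eq_zero P n _ hw, TensorProduct.tmul_zero] at this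
  exact this

theorem rTerm_mul (hK : HasSplitting K P) (k : ℕ) (x y : K) :
    ∃ e : KGr.rees P, toGr P e = 0 ∧ rTerm hK k (x * y) = e +
      ∑ ab ∈ antidiagonal k, (k.choose ab.1 : KGr.rees P) * (rTerm hK ab.1 x * rTerm hK ab.2 y) := by
  have hw := adamsDiff_mul_sub_mem hK k x y
  set w := adamsDiff P k (x * y) -
    ∑ ab ∈ antidiagonal k, (k.choose ab.1 : K) * (adamsDiff P ab.1 x * adamsDiff P ab.2 y) with hwdef
  have hwr : C w * T (-(k : ℤ)) ∈ KGr.rees P :=
    monomial_mem_rees' P (gammaFiltration_antitone P (Nat.le_succ k) hw)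
  refine ⟨⟨C w * T (-(k : ℤ)), hwr⟩, toGr_eq_zero_of_mem k w hw hwr, ?_⟩
  apply Subtype.ext
  rw [Subring.coe_add, AddSubmonoidClass.coe_finsetSum]
  show C (adamsDiff P k (x * y)) * T (-(k : ℤ)) = C w * T (-(k : ℤ)) +
    ∑ ab ∈ antidiagonal k, (((k.choose ab.1 : KGr.rees P) *
      (rTerm hK ab.1 x * rTerm hK ab.2 y) : KGr.rees P) : LaurentPolynomial K)
  have h1 : ∀ ab ∈ antidiagonal k, (((k.choose ab.1 : KGr.rees P) *
      (rTerm hK ab.1 x * rTerm hK ab.2 y) : KGr.rees P) : LaurentPolynomial K) =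
      C ((k.choose ab.1 : K) * (adamsDiff P ab.1 x * adamsDiff P ab.2 y)) * T (-(k : ℤ)) := by
    intro ab hab
    have hab' := mem_antidiagonal.mp hab
    rw [Subring.coe_mul, Subring.coe_mul, Subring.coe_natCast]
    show (k.choose ab.1 : LaurentPolynomial K) * ((C (adamsDiff P ab.1 x) * T (-(ab.1 : ℤ))) *
      (C (adamsDiff P ab.2 y) * T (-(ab.2 : ℤ)))) = _
    rw [← hab', map_mul, map_mul, map_natCast, Nat.cast_add, neg_add, T_add]
    ring
  rw [Finset.sum_congr rfl h1, ← Finset.sum_mul, ← map_sum, ← add_mul, ← map_add, hwdef,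
    sub_add_cancel]

theorem gTerm_mul (hK : HasSplitting K P) (k : ℕ) (x y : K) :
    gTerm hK k (x * y) = ∑ ab ∈ antidiagonal k, gTerm hK ab.1 x * gTerm hK ab.2 y := by
  obtain ⟨e, he, h⟩ := rTerm_mul hK k x y
  exact abstract_term_mul (R := KGr.rees P) (S := KGr.Gr P) (toGr P) k _ e
    (fun a => rTerm hK a x) (fun b => rTerm hK b y) he h

theorem gTerm_eq_zero (hK : HasSplitting K P) (d : ℕ) (hd : gammaFiltration P (d + 1) = ⊥)
    (k : ℕ) (hk : d < k) (x : K) : gTerm hK k x = 0 := by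
  have h0 : adamsDiff P k x = 0 := by
    have := gammaFiltration_antitone P (show d + 1 ≤ k by omega) (adamsDiff_mem hK k x)
    rw [hd] at this
    exact this
  have h1 : rTerm hK k x = 0 := by
    apply Subtype.ext
    show C (adamsDiff P k x) * T (-(k : ℤ)) = 0
    rw [h0, map_zero, zero_mul]
  rw [gTerm, h1, map_zero, smul_zero]

theorem adams_zero_eq (x : K) : adams P 0 x = (P.aug x : K) := by
  rw [adams, adamsSeries_eq, map_sub, mul_assoc, PowerSeries.coeff_zero_X_mul, sub_zero,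
    PowerSeries.coeff_zero_C]

theorem adamsDiff_zero_eq (x : K) : adamsDiff P 0 x = (P.aug x : K) := by
  rw [adamsDiff_apply]
  simp [adams_zero_eq]

theorem gTerm_zero (hK : HasSplitting K P) (x : K) :
    gTerm hK 0 x = (1 : ℚ) ⊗ₜ[ℤ] grZ P 0 ⟨x, one_mem_gammaFiltration_zero P x⟩ := by
  rw [gTerm, Nat.factorial_zero, Nat.cast_one, div_one, one_smul]
  show toGr P ⟨C (adamsDiff P 0 x) * T (-((0 : ℕ) : ℤ)), _⟩ = _
  rw [toGr_monomial P 0 _ (one_mem_gammaFiltration_zero P _), grZ_zero_eq, grZ_zero_eq,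
    adamsDiff_zero_eq, map_intCast, Int.cast_id]

theorem gTerm_succ (hK : HasSplitting K P) (k : ℕ) (x : K) :
    gTerm hK (k + 1) x = chTerm P (k + 1) x := by
  rw [gTerm, chTerm]
  congr 1
  show toGr P ⟨C (adamsDiff P (k + 1) x) * T (-((k + 1 : ℕ) : ℤ)), _⟩ = _
  rw [toGr_monomial P (k + 1) _ (adamsDiff_mem hK (k + 1) x)]
  congr 2
  apply Subtype.ext
  exact (nu_eq_adamsDiff P hK (k + 1) (by omega) x).symm

theorem chK_eq_sum_gTerm (hK : HasSplitting K P) (d : ℕ) (x : K) :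
    KGr.chK P d x = ∑ k ∈ range (d + 1), gTerm hK k x := by
  rw [chK_eq_sum, Finset.sum_range_succ', gTerm_zero, add_comm]
  congr 1
  exact Finset.sum_congr rfl fun k _ => (gTerm_succ hK k x).symm

/-- **The Chern character is multiplicative.** -/
theorem chK_mul (hK : HasSplitting K P) (d : ℕ) (hd : gammaFiltration P (d + 1) = ⊥) (x y : K) :
    KGr.chK P d (x * y) = KGr.chK P d x * KGr.chK P d y := by
  rw [chK_eq_sum_gTerm hK, chK_eq_sum_gTerm hK, chK_eq_sum_gTerm hK]
  exact abstract_sum_mul (S := KGr.Gr P) d (fun k => gTerm hK k (x * y)) (fun k => gTerm hK k x)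
    (fun k => gTerm hK k y) (fun k => gTerm_mul hK k x y)
    (fun k hk => gTerm_eq_zero hK d hd k hk _) (fun k hk => gTerm_eq_zero hK d hd k hk _)
    (fun k hk => gTerm_eq_zero hK d hd k hk _)

theorem grZ_zero_one : grZ P 0 ⟨1, one_mem_gammaFiltration_zero P 1⟩ = (1 : KGr.GrZ P) := by
  rw [grZ_apply, ← map_one (Ideal.Quotient.mk (Ideal.span {KGr.tGen P}))]
  congr 1
  apply Subtype.ext
  simp

theorem nu_one (k : ℕ) : nu P k (1 : K) = 0 := by
  have hred : red P (1 : K) = 0 := by rw [red, map_one, Int.cast_one, sub_self]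
  rw [nu, hred, gammaSeries_zero]
  rcases k with _ | k
  · rfl
  · rw [newton_succ, logD_one, map_zero, mul_zero]

/-- `ch(1) = 1`. -/
theorem chK_one (d : ℕ) : KGr.chK P d (1 : K) = 1 := by
  rw [chK_eq_sum, grZ_zero_one, Finset.sum_eq_zero, add_zero]
  · rfl
  · intro k _
    rw [chTerm]
    have : (⟨nu P (k + 1) (1 : K), nu_mem P (k + 1) 1⟩ : gammaFiltration P (k + 1)) = 0 :=
      Subtype.ext (nu_one (k + 1))
    rw [this, map_zero, TensorProduct.tmul_zero, smul_zero]

end Groth.Agent.Lib.Helper16.KGr
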