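import Groth.Prelude.Def_KGr
import Groth.Agent.Lib.Helper44.Newton

/-!
# The polynomial `KGr.chPoly d` through Newton sums (helper16)

`aeval c (chPoly d) = d + Σ_{1 ≤ k ≤ d} (1/k!) ν_k(1 + c_1 s + ⋯ + c_d s^d)` where `ν_k` is the `k`-th
Newton (power-sum) coefficient (`Helper44.newton`).
-/

set_option autoImplicit false

open scoped TensorProduct
open Finset

namespace Groth.Agent.Lib.Helper16.KGr

open Groth.Agent.Lib.Helper44

section Vieta

variable {R : Type*} [CommRing R]

/-- Vieta for power series: the coefficients of `∏ (1 + c_i s)` are the elementary symmetric functions. -/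
theorem coeff_prod_one_add_C_mul_X {ι : Type*} [DecidableEq ι] (s : Finset ι) (c : ι → R) (k : ℕ) :
    PowerSeries.coeff k (∏ i ∈ s, (1 + PowerSeries.C (c i) * PowerSeries.X)) =
      ∑ t ∈ s.powersetCard k, ∏ i ∈ t, c i := by
  rw [Finset.prod_one_add, map_sum]
  have h : ∀ t ∈ s.powerset, PowerSeries.coeff k (∏ i ∈ t, (PowerSeries.C (c i) * PowerSeries.X)) =
      if t.card = k then ∏ i ∈ t, c i else 0 := by
    intro t _
    rw [Finset.prod_mul_distrib, Finset.prod_const, ← map_prod, PowerSeries.coeff_C_mul_X_pow]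
    by_cases h : t.card = k
    · rw [if_pos h, if_pos h.symm]
    · rw [if_neg h, if_neg (fun h' => h h'.symm)]
  rw [Finset.sum_congr rfl h, ← Finset.sum_filter, Finset.powersetCard_eq_filter]

end Vieta

section Series

variable {A : Type*} [CommRing A]

/-- The series `1 + c_0 s + c_1 s^2 + ⋯ + c_{d-1} s^d`. -/
noncomputable def serOf {d : ℕ} (c : Fin d → A) : PowerSeries A :=
  PowerSeries.mk fun k => if k = 0 then 1 else if h : k - 1 < d then c ⟨k - 1, h⟩ else 0

theorem coeff_serOf {d : ℕ} (c : Fin d → A) (k : ℕ) :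
    PowerSeries.coeff k (serOf c) = if k = 0 then 1 else if h : k - 1 < d then c ⟨k - 1, h⟩ else 0 := by
  rw [serOf, PowerSeries.coeff_mk]

theorem constantCoeff_serOf {d : ℕ} (c : Fin d → A) : PowerSeries.constantCoeff (serOf c) = 1 := by
  rw [← PowerSeries.coeff_zero_eq_constantCoeff_apply, coeff_serOf, if_pos rfl]

theorem map_serOf {B : Type*} [CommRing B] (f : A →+* B) {d : ℕ} (c : Fin d → A) :
    PowerSeries.map f (serOf c) = serOf (fun i => f (c i)) := by
  ext k
  rw [PowerSeries.coeff_map, coeff_serOf, coeff_serOf]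
  split_ifs <;> simp

end Series

section Main

open MvPolynomial

/-- The universal series `1 + X_0 s + ⋯ + X_{d-1} s^d`. -/
noncomputable abbrev univSer (d : ℕ) : PowerSeries (MvPolynomial (Fin d) ℚ) :=
  serOf (fun i : Fin d => (X i : MvPolynomial (Fin d) ℚ))

theorem serOf_esymm (d : ℕ) :
    serOf (fun i : Fin d => esymm (Fin d) ℚ ((i : ℕ) + 1)) =
      ∏ i : Fin d, (1 + PowerSeries.C (X i : MvPolynomial (Fin d) ℚ) * PowerSeries.X) := by
  classical
  refine PowerSeries.ext fun k => ?_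
  rw [coeff_serOf, coeff_prod_one_add_C_mul_X]
  rcases Nat.eq_zero_or_pos k with rfl | hk
  · rw [if_pos rfl, Finset.powersetCard_zero, Finset.sum_singleton, Finset.prod_empty]
  · rw [if_neg (by omega)]
    by_cases h : k - 1 < d
    · rw [dif_pos h]
      show esymm (Fin d) ℚ (k - 1 + 1) = _
      rw [Nat.sub_add_cancel hk]
      rfl
    · rw [dif_neg h, Finset.powersetCard_eq_empty.mpr (by simp; omega), Finset.sum_empty]

theorem symm_psum (d k : ℕ) (hk : 1 ≤ k) :
    (esymmAlgEquiv (Fin d) ℚ (Fintype.card_fin d)).symm ⟨psum (Fin d) ℚ k, psum_isSymmetric _ _ k⟩ =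
      newton k (univSer d) := by
  rw [AlgEquiv.symm_apply_eq]
  apply Subtype.ext
  rw [esymmAlgEquiv_apply, esymmAlgHom_apply]
  show psum (Fin d) ℚ k =
    ((aeval fun i : Fin d => esymm (Fin d) ℚ ((i : ℕ) + 1)) : _ →ₐ[ℚ] _).toRingHom (newton k (univSer d))
  rw [map_newton _ _ (constantCoeff_serOf _), map_serOf]
  have : (fun i : Fin d => ((aeval fun i : Fin d => esymm (Fin d) ℚ ((i : ℕ) + 1)) :
      MvPolynomial (Fin d) ℚ →ₐ[ℚ] _).toRingHom (X i)) = fun i : Fin d => esymm (Fin d) ℚ ((i : ℕ) + 1) := by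
    funext i
    simp
  rw [this, serOf_esymm, newton_prod_one_add_C_mul_X _ _ _ hk]
  rfl

theorem chPoly_eq (d : ℕ) :
    KGr.chPoly d = (d : MvPolynomial (Fin d) ℚ) +
      ∑ k ∈ range d, (1 / ((k + 1).factorial : ℚ)) • newton (k + 1) (univSer d) := by
  have h1 : (⟨∑ i : Fin d, Polynomial.aeval (X i : MvPolynomial (Fin d) ℚ) (KGr.expTrunc d),
      KGr.isSymmetric_sum_aeval d (KGr.expTrunc d)⟩ : symmetricSubalgebra (Fin d) ℚ) =
      ∑ k ∈ range (d + 1), (1 / (k.factorial : ℚ)) •
        (⟨psum (Fin d) ℚ k, psum_isSymmetric _ _ k⟩ : symmetricSubalgebra (Fin d) ℚ) := by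
    apply Subtype.ext
    rw [AddSubmonoidClass.coe_finsetSum]
    simp only [KGr.expTrunc, map_sum, map_mul, Polynomial.aeval_C, map_pow, Polynomial.aeval_X]
    rw [Finset.sum_comm]
    refine Finset.sum_congr rfl fun k _ => ?_
    rw [← Finset.mul_sum]
    show _ = (1 / (k.factorial : ℚ)) • psum (Fin d) ℚ k
    rw [Algebra.smul_def]
    rfl
  unfold KGr.chPoly
  rw [h1, map_sum, Finset.sum_range_succ']
  simp only [map_smul]
  rw [add_comm]
  congr 1
  · have : (⟨psum (Fin d) ℚ 0, psum_isSymmetric _ _ 0⟩ : symmetricSubalgebra (Fin d) ℚ) =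
        ((d : ℕ) : symmetricSubalgebra (Fin d) ℚ) := by
      apply Subtype.ext
      simp [psum_zero]
    rw [this, map_natCast]
    simp
  · refine Finset.sum_congr rfl fun k _ => ?_
    rw [symm_psum d (k + 1) (by omega)]

variable {A : Type*} [CommRing A] [Algebra ℚ A]

/-- The value of `chPoly d` on `c_1, …, c_d` through the Newton sums of `1 + c_1 s + ⋯ + c_d s^d`. -/
theorem aeval_chPoly (d : ℕ) (c : Fin d → A) :
    aeval c (KGr.chPoly d) = (d : A) +
      ∑ k ∈ range d, (1 / ((k + 1).factorial : ℚ)) • newton (k + 1) (serOf c) := by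
  rw [chPoly_eq, map_add, map_natCast, map_sum]
  congr 1
  refine Finset.sum_congr rfl fun k _ => ?_
  rw [map_smul]
  congr 1
  have := map_newton ((aeval c : MvPolynomial (Fin d) ℚ →ₐ[ℚ] A).toRingHom) (k + 1)
    (constantCoeff_serOf (fun i : Fin d => (X i : MvPolynomial (Fin d) ℚ)))
  rw [map_serOf] at this
  have h2 : (fun i : Fin d => (aeval c : MvPolynomial (Fin d) ℚ →ₐ[ℚ] A).toRingHom (X i)) = c := by
    funext i
    simp
  rw [h2] at this
  exact this

end Main

end Groth.Agent.Lib.Helper16.KGr
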