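import Groth.Agent.Lib.Helper16.KGr.Rees
import Groth.Agent.Lib.Helper16.KGr.ChPoly
import Groth.Agent.Lib.Helper44.GammaSeries

/-!
# The Chern series in `KGr.Gr P` and the Chern character through Newton sums (helper16)

* `reesGam P x = Σ γ^i(x - εx) t^{-i} s^i ∈ Rees[[s]]`, multiplicative in `x`.
* `chernSer P x = Σ c^i(x) s^i ∈ (Gr P)[[s]]`, multiplicative in `x`.
* `nu P k x = ν_k(γ_s(x - εx)) ∈ F^k` (the `k`-th Newton sum of the γ-series), additive in `x`.
* `chK_eq`: `ch(x) = ε(x) + Σ_{1≤k≤d} (1/k!) [ν_k(x)]_k`.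
* `chK_add`: the Chern character is additive.
-/

set_option autoImplicit false
universe v

open scoped TensorProduct
open LaurentPolynomial LambdaRing Finset

namespace Groth.Agent.Lib.Helper16.KGr

open Groth.Agent.Lib.Helper44
open Groth.Agent.Lib.Helper41.AdamsGamma
open Groth.Agent.Lib.Helper41.LambdaSplit (gamma_mem_gammaFiltration)

section Rescale

variable {R : Type*} [CommRing R]

theorem derivative_rescale (a : R) (A : PowerSeries R) :
    PowerSeries.derivative R (PowerSeries.rescale a A) =
      PowerSeries.C a * PowerSeries.rescale a (PowerSeries.derivative R A) := by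
  ext n
  rw [PowerSeries.coeff_derivative, PowerSeries.coeff_rescale, PowerSeries.coeff_C_mul,
    PowerSeries.coeff_rescale, PowerSeries.coeff_derivative]
  ring

theorem constantCoeff_rescale (a : R) (A : PowerSeries R) :
    PowerSeries.constantCoeff (PowerSeries.rescale a A) = PowerSeries.constantCoeff A := by
  rw [← PowerSeries.coeff_zero_eq_constantCoeff_apply, PowerSeries.coeff_rescale, pow_zero, one_mul,
    PowerSeries.coeff_zero_eq_constantCoeff_apply]

theorem logD_rescale (a : R) {A : PowerSeries R} (hA : PowerSeries.constantCoeff A = 1) :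
    logD (PowerSeries.rescale a A) = PowerSeries.C a * PowerSeries.rescale a (logD A) := by
  symm
  apply eq_logD (by rw [constantCoeff_rescale, hA])
  rw [mul_assoc, ← map_mul, logD_mul_self hA, derivative_rescale]

theorem newton_rescale (a : R) {A : PowerSeries R} (hA : PowerSeries.constantCoeff A = 1) (k : ℕ) :
    newton k (PowerSeries.rescale a A) = a ^ k * newton k A := by
  rcases k with _ | k
  · simp [newton]
  · rw [newton_succ, newton_succ, logD_rescale a hA, PowerSeries.coeff_C_mul,
      PowerSeries.coeff_rescale]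
    ring

theorem newton_mul {A B : PowerSeries R} (hA : PowerSeries.constantCoeff A = 1)
    (hB : PowerSeries.constantCoeff B = 1) (k : ℕ) :
    newton k (A * B) = newton k A + newton k B := by
  rcases k with _ | k
  · simp [newton]
  · rw [newton_succ, newton_succ, newton_succ, logD_mul hA hB, map_add]
    ring

end Rescale

section Generic

variable {A : Type*} [CommRing A] [Algebra ℚ A]

/-- The generic Chern character expression `e + Σ_{1≤k≤d} ν_k(S)/k!`. -/
noncomputable def chGen (d : ℕ) (e : ℚ) (S : PowerSeries A) : A :=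
  algebraMap ℚ A e + ∑ k ∈ range d, (1 / ((k + 1).factorial : ℚ)) • newton (k + 1) S

theorem chGen_mul (d : ℕ) (e e' : ℚ) {S S' : PowerSeries A} (hS : PowerSeries.constantCoeff S = 1)
    (hS' : PowerSeries.constantCoeff S' = 1) :
    chGen d (e + e') (S * S') = chGen d e S + chGen d e' S' := by
  unfold chGen
  have h : ∀ k ∈ range d, (1 / ((k + 1).factorial : ℚ)) • newton (k + 1) (S * S') =
      (1 / ((k + 1).factorial : ℚ)) • newton (k + 1) S +
      (1 / ((k + 1).factorial : ℚ)) • newton (k + 1) S' := by
    intro k _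
    rw [newton_mul hS hS', smul_add]
  rw [Finset.sum_congr rfl h, Finset.sum_add_distrib, map_add]
  abel

theorem chGen_eq_of_coeff (d : ℕ) (e : ℚ) (c : Fin d → A) {S : PowerSeries A}
    (hS : PowerSeries.constantCoeff S = 1) (hc : ∀ i : Fin d, c i = PowerSeries.coeff (i.1 + 1) S) :
    algebraMap ℚ A (e - d) + MvPolynomial.aeval c (KGr.chPoly d) = chGen d e S := by
  unfold chGen
  rw [aeval_chPoly, map_sub, map_natCast]
  have h : ∀ k ∈ range d, newton (k + 1) (serOf c) = newton (k + 1) S := by
    intro k hk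
    apply newton_congr_of_coeff_eq (constantCoeff_serOf _) hS d _ (k + 1)
      (by have := mem_range.mp hk; omega)
    intro i hi
    rw [coeff_serOf]
    rcases Nat.eq_zero_or_pos i with rfl | hpos
    · rw [if_pos rfl, PowerSeries.coeff_zero_eq_constantCoeff_apply, hS]
    · rw [if_neg (by omega), dif_pos (by omega), hc]
      show PowerSeries.coeff (i - 1 + 1) S = _
      rw [Nat.sub_add_cancel hpos]
  rw [Finset.sum_congr rfl fun k hk => by rw [h k hk]]
  ring

end Generic

variable {K : Type v} [CommRing K] [LambdaOps K] (P : PosStructure K)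

/-- `x - ε(x)`. -/
def red (x : K) : K := x - (P.aug x : K)

theorem aug_red (x : K) : P.aug (red P x) = 0 := by
  rw [red, map_sub, map_intCast, Int.cast_id, sub_self]

theorem red_add (x y : K) : red P (x + y) = red P x + red P y := by
  simp only [red, map_add, Int.cast_add]
  ring

theorem red_of_aug_zero {x : K} (hx : P.aug x = 0) : red P x = x := by
  rw [red, hx, Int.cast_zero, sub_zero]

theorem gamma_red_mem (x : K) (i : ℕ) : gamma i (red P x) ∈ gammaFiltration P i := by
  rcases Nat.eq_zero_or_pos i with rfl | hi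
  · exact one_mem_gammaFiltration_zero P _
  · exact gamma_mem_gammaFiltration P _ (aug_red P x) i hi

/-- The homogenised γ-series `Σ γ^i(x - εx) t^{-i} s^i` with coefficients in the Rees ring. -/
noncomputable def reesGam (x : K) : PowerSeries (KGr.rees P) :=
  PowerSeries.mk fun i =>
    ⟨C (gamma i (red P x)) * T (-(i : ℤ)), monomial_mem_rees' P (gamma_red_mem P x i)⟩

theorem map_subtype_reesGam (x : K) :
    PowerSeries.map (KGr.rees P).subtype (reesGam P x) =
      PowerSeries.rescale (T (-1)) (PowerSeries.map C (gammaSeries (red P x))) := by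
  refine PowerSeries.ext fun i => ?_
  rw [PowerSeries.coeff_rescale, PowerSeries.coeff_map (C : K →+* LaurentPolynomial K),
    coeff_gammaSeries, T_pow, mul_neg_one,
    mul_comm, PowerSeries.coeff_map, reesGam, PowerSeries.coeff_mk]
  rfl

theorem map_subtype_injective :
    Function.Injective (PowerSeries.map (KGr.rees P).subtype) := by
  intro A B h
  refine PowerSeries.ext fun i => ?_
  have := congrArg (PowerSeries.coeff i) h
  rw [PowerSeries.coeff_map, PowerSeries.coeff_map] at this
  exact Subtype.ext this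

theorem constantCoeff_gammaSeries (z : K) : PowerSeries.constantCoeff (gammaSeries z) = 1 := by
  rw [← PowerSeries.coeff_zero_eq_constantCoeff_apply, coeff_gammaSeries]
  simp [gamma]

theorem constantCoeff_reesGam (x : K) : PowerSeries.constantCoeff (reesGam P x) = 1 := by
  rw [← PowerSeries.coeff_zero_eq_constantCoeff_apply, reesGam, PowerSeries.coeff_mk]
  apply Subtype.ext
  show (C (gamma 0 (red P x)) * T (-((0 : ℕ) : ℤ)) : LaurentPolynomial K) = 1
  simp [gamma]

theorem reesGam_add (x y : K) : reesGam P (x + y) = reesGam P x * reesGam P y := by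
  apply map_subtype_injective P
  rw [map_mul, map_subtype_reesGam, map_subtype_reesGam, map_subtype_reesGam, red_add,
    gammaSeries_add, map_mul, map_mul]

/-- The ring map `Rees → Gr P = ℚ ⊗ Rees/(t)`. -/
noncomputable def toGr : KGr.rees P →+* KGr.Gr P :=
  ((Algebra.TensorProduct.includeRight : KGr.GrZ P →ₐ[ℤ] ℚ ⊗[ℤ] KGr.GrZ P) : KGr.GrZ P →+* KGr.Gr P).comp
    (Ideal.Quotient.mk (Ideal.span {KGr.tGen P}))

theorem toGr_apply (p : KGr.rees P) :
    toGr P p = (1 : ℚ) ⊗ₜ[ℤ] Ideal.Quotient.mk (Ideal.span {KGr.tGen P}) p := rfl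

theorem toGr_monomial (n : ℕ) (x : K) (hx : x ∈ gammaFiltration P n) :
    toGr P ⟨C x * T (-(n : ℤ)), monomial_mem_rees' P hx⟩ = (1 : ℚ) ⊗ₜ[ℤ] grZ P n ⟨x, hx⟩ := rfl

/-- The Chern series `Σ c^i(x) s^i`. -/
noncomputable def chernSer (x : K) : PowerSeries (KGr.Gr P) :=
  PowerSeries.map (toGr P) (reesGam P x)

theorem coeff_chernSer (x : K) (i : ℕ) : PowerSeries.coeff i (chernSer P x) = KGr.chern P i x := by
  rw [chernSer, PowerSeries.coeff_map, reesGam, PowerSeries.coeff_mk,
    toGr_monomial P i _ (gamma_red_mem P x i), ← grK_of_mem]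
  rfl

theorem constantCoeff_chernSer (x : K) : PowerSeries.constantCoeff (chernSer P x) = 1 := by
  rw [chernSer, ← PowerSeries.coeff_zero_eq_constantCoeff_apply, PowerSeries.coeff_map,
    PowerSeries.coeff_zero_eq_constantCoeff_apply, constantCoeff_reesGam, map_one]

theorem chernSer_add (x y : K) : chernSer P (x + y) = chernSer P x * chernSer P y := by
  rw [chernSer, reesGam_add, map_mul]
  rfl

/-- `ν_k(x)`: the `k`-th Newton sum of the γ-series of `x - ε(x)`. -/
noncomputable def nu (k : ℕ) (x : K) : K := newton k (gammaSeries (red P x))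

theorem nu_add (k : ℕ) (x y : K) : nu P k (x + y) = nu P k x + nu P k y := by
  rw [nu, red_add, gammaSeries_add,
    newton_mul (constantCoeff_gammaSeries _) (constantCoeff_gammaSeries _)]
  rfl

theorem subtype_newton_reesGam (k : ℕ) (x : K) :
    ((newton k (reesGam P x) : KGr.rees P) : LaurentPolynomial K) = C (nu P k x) * T (-(k : ℤ)) := by
  have h1 := map_newton (KGr.rees P).subtype k (constantCoeff_reesGam P x)
  have h2 : PowerSeries.constantCoeff (PowerSeries.map (C : K →+* LaurentPolynomial K)
      (gammaSeries (red P x))) = 1 := by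
    rw [← PowerSeries.coeff_zero_eq_constantCoeff_apply, PowerSeries.coeff_map,
      PowerSeries.coeff_zero_eq_constantCoeff_apply, constantCoeff_gammaSeries, map_one]
  rw [map_subtype_reesGam, newton_rescale _ h2,
    ← map_newton _ _ (constantCoeff_gammaSeries _), T_pow, mul_neg_one, mul_comm] at h1
  exact h1

theorem nu_mem (k : ℕ) (x : K) : nu P k x ∈ gammaFiltration P k := by
  have h := (mem_rees_iff P).mp (newton k (reesGam P x)).2 k
  rw [subtype_newton_reesGam, coeff_C_mul_T, if_pos rfl] at h
  exact h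

theorem newton_chernSer (k : ℕ) (x : K) :
    newton k (chernSer P x) = (1 : ℚ) ⊗ₜ[ℤ] grZ P k ⟨nu P k x, nu_mem P k x⟩ := by
  rw [chernSer, ← map_newton _ _ (constantCoeff_reesGam P x), ← toGr_monomial]
  congr 1
  apply Subtype.ext
  exact subtype_newton_reesGam P k x

/-- The Chern character through the Newton sums of the Chern series. -/
theorem chK_eq_chGen (d : ℕ) (x : K) :
    KGr.chK P d x = chGen d (P.aug x : ℚ) (chernSer P x) :=
  chGen_eq_of_coeff d (P.aug x : ℚ) (fun i : Fin d => KGr.chern P (i.1 + 1) x)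
    (constantCoeff_chernSer P x) (fun i => (coeff_chernSer P x (i.1 + 1)).symm)

/-- The Chern character as `ε(x) + Σ_{1≤k≤d} (1/k!) [ν_k(x)]_k`. -/
theorem chK_eq (d : ℕ) (x : K) :
    KGr.chK P d x = algebraMap ℚ (KGr.Gr P) (P.aug x : ℚ) +
      ∑ k ∈ range d, (1 / ((k + 1).factorial : ℚ)) •
        ((1 : ℚ) ⊗ₜ[ℤ] grZ P (k + 1) ⟨nu P (k + 1) x, nu_mem P (k + 1) x⟩) := by
  rw [chK_eq_chGen, chGen]
  congr 1
  exact Finset.sum_congr rfl fun k _ => by rw [newton_chernSer]

/-- The Chern character is additive. -/
theorem chK_add (d : ℕ) (x y : K) : KGr.chK P d (x + y) = KGr.chK P d x + KGr.chK P d y := by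
  rw [chK_eq_chGen, chK_eq_chGen, chK_eq_chGen, chernSer_add, map_add, Int.cast_add]
  exact chGen_mul d _ _ (constantCoeff_chernSer P x) (constantCoeff_chernSer P y)

end Groth.Agent.Lib.Helper16.KGr
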