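import Groth.Agent.Lib.Helper16.KGr.ChernSer
import Mathlib.Algebra.Group.ForwardDiff

/-!
# The Newton sums of the γ-series through Adams operations, and their leading terms (helper16)

* `nu_eq_adamsDiff`: `ν_k(x) = Σ_{i ≤ k} (-1)^{k-i} C(k,i) ψ^i(x)` for `k ≥ 1` (splitting principle).
* `nu_mem_of_mem`: `ν_k(F^n) ⊆ F^n` for `n ≥ 1`, `k ≥ 1`.
* `nu_sub_factorial_mem`: `ν_n(x) ≡ n! x mod F^{n+1}` for `x ∈ F^n`, `n ≥ 1`.
* `grZ_nu_of_lt`, `grZ_nu_self`, `grZ_zero_eq`: the same in `GrZ P`.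
-/

set_option autoImplicit false
universe v

open scoped TensorProduct
open LaurentPolynomial LambdaRing Finset

namespace Groth.Agent.Lib.Helper16.KGr

open Groth.Agent.Lib.Helper44
open Groth.Agent.Lib.Helper41.AdamsGamma
open Groth.Agent.Lib.Helper41.LambdaSplit (gamma_map lam_one_eq_zero lam_line_eq_zero)
open Groth.Agent.Lib.Helper41.DetLine (aug_eq_zero_of_mem_gammaFiltration_one mem_one_of_aug_zero)
open Groth.Agent.Lib.Helper16

variable {K : Type v} [CommRing K] [LambdaOps K] (P : PosStructure K)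

/-- `ν_k` as an additive map. -/
noncomputable def nuHom (k : ℕ) : K →+ K where
  toFun := nu P k
  map_zero' := by
    have := nu_add P k 0 0
    rw [add_zero] at this
    exact left_eq_add.mp this
  map_add' := nu_add P k

theorem nuHom_apply (k : ℕ) (x : K) : nuHom P k x = nu P k x := rfl

/-- `Σ_{i ≤ k} (-1)^{k-i} C(k,i) ψ^i`, the `k`-th finite difference at `0` of `i ↦ ψ^i`. -/
noncomputable def adamsDiff (k : ℕ) : K →+ K :=
  ∑ i ∈ range (k + 1), ((-1 : ℤ) ^ (k - i) * (k.choose i : ℤ)) • adamsHom P i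

theorem adamsDiff_apply (k : ℕ) (x : K) :
    adamsDiff P k x = ∑ i ∈ range (k + 1), ((-1 : ℤ) ^ (k - i) * (k.choose i : ℤ)) • adams P i x := by
  rw [adamsDiff, AddMonoidHom.finsetSum_apply]
  rfl

theorem nu_line {u : K} (hu : P.IsLine u) (k : ℕ) (hk : 1 ≤ k) : nu P k u = (u - 1) ^ k := by
  have hred : red P u = u - 1 := by rw [red, hu.2, Int.cast_one]
  rw [nu, hred, gammaSeries_line_sub_one (lam_one_eq_zero P) u (lam_line_eq_zero P u hu),
    newton_one_add_C_mul_X k hk]

theorem adamsDiff_line {u : K} (hu : P.IsLine u) (k : ℕ) : adamsDiff P k u = (u - 1) ^ k := by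
  rw [adamsDiff_apply, sub_eq_add_neg, add_pow]
  refine Finset.sum_congr rfl fun i _ => ?_
  rw [adams_line P hu, zsmul_eq_mul]
  push_cast
  ring

theorem nu_sum_lines (s : Multiset K) (hs : ∀ u ∈ s, P.IsLine u) (k : ℕ) (hk : 1 ≤ k) :
    nu P k s.sum = (s.map fun u => (u - 1) ^ k).sum := by
  rw [← nuHom_apply, map_multiset_sum, Multiset.map_congr rfl]
  intro u hu
  exact nu_line P (hs u hu) k hk

theorem adamsDiff_sum_lines (s : Multiset K) (hs : ∀ u ∈ s, P.IsLine u) (k : ℕ) :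
    adamsDiff P k s.sum = (s.map fun u => (u - 1) ^ k).sum := by
  rw [map_multiset_sum, Multiset.map_congr rfl]
  intro u hu
  exact adamsDiff_line P (hs u hu) k

section Ext

variable {K' : Type v} [CommRing K'] [LambdaOps K'] {P' : PosStructure K'} {f : K →+* K'}

variable {P}

theorem red_map (hf : IsExtension P P' f) (x : K) : f (red P x) = red P' (f x) := by
  rw [red, red, map_sub, map_intCast, hf.aug_comp]

theorem nu_map (hf : IsExtension P P' f) (k : ℕ) (x : K) : f (nu P k x) = nu P' k (f x) := by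
  rw [nu, nu, map_newton f k (constantCoeff_gammaSeries _), ← red_map hf]
  congr 1
  ext i
  rw [PowerSeries.coeff_map, coeff_gammaSeries, coeff_gammaSeries, gamma_map f hf.isLambdaHom]

theorem adamsDiff_map (hf : IsExtension P P' f) (k : ℕ) (x : K) :
    f (adamsDiff P k x) = adamsDiff P' k (f x) := by
  rw [adamsDiff_apply, adamsDiff_apply, map_sum]
  refine Finset.sum_congr rfl fun i _ => ?_
  rw [map_zsmul, adams_map hf]

end Ext

/-- The Newton sums of the γ-series are the finite differences of the Adams operations. -/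
theorem nu_eq_adamsDiff (hK : HasSplitting K P) (k : ℕ) (hk : 1 ≤ k) (x : K) :
    nu P k x = adamsDiff P k x := by
  have hpos : ∀ e ∈ P.pos, nuHom P k e = adamsDiff P k e := by
    intro e he
    obtain ⟨L, g, hg, s, hs, hsum⟩ := split_one hK e he
    apply hg.injective
    rw [nuHom_apply, nu_map hg, adamsDiff_map hg, ← hsum, nu_sum_lines L.posStr s hs k hk,
      adamsDiff_sum_lines L.posStr s hs k]
  obtain ⟨e, e', he, he', rfl⟩ := P.exists_sub x
  rw [← nuHom_apply, map_sub, map_sub, hpos e he, hpos e' he']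

variable {P}

theorem adams_mem_of_mem (hK : HasSplitting K P) {n : ℕ} {x : K} (hx : x ∈ gammaFiltration P n)
    (i : ℕ) : adams P i x ∈ gammaFiltration P n := by
  have h1 := gammaFiltration_antitone P (Nat.le_succ n) (adams_sub_pow_mul_mem P hK i n x hx)
  have h2 := mul_mem_left P ((i : K) ^ n) hx
  have := (gammaFiltration P n).add_mem h1 h2
  rwa [sub_add_cancel] at this

theorem adamsDiff_mem_of_mem (hK : HasSplitting K P) {n : ℕ} {x : K}
    (hx : x ∈ gammaFiltration P n) (k : ℕ) : adamsDiff P k x ∈ gammaFiltration P n := by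
  rw [adamsDiff_apply]
  refine AddSubgroup.sum_mem _ fun i _ => ?_
  exact AddSubgroup.zsmul_mem _ (adams_mem_of_mem hK hx i) _

theorem sum_choose_mul_pow_eq_factorial (n : ℕ) :
    ∑ i ∈ range (n + 1), ((-1 : ℤ) ^ (n - i) * (n.choose i : ℤ)) * (i : ℤ) ^ n = (n.factorial : ℤ) := by
  have h1 := fwdDiff_iter_eq_sum_shift (1 : ℤ) (fun r : ℤ => r ^ n) n 0
  have h2 := congrFun (fwdDiff_iter_eq_factorial (R := ℤ) (n := n)) 0
  rw [h2] at h1
  simp only [smul_eq_mul, zero_add, mul_one, nsmul_eq_mul] at h1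
  simpa using h1.symm

theorem adamsDiff_sub_factorial_mem (hK : HasSplitting K P) {n : ℕ} {x : K}
    (hx : x ∈ gammaFiltration P n) :
    adamsDiff P n x - (n.factorial : K) * x ∈ gammaFiltration P (n + 1) := by
  have e : adamsDiff P n x - (n.factorial : K) * x =
      ∑ i ∈ range (n + 1), ((-1 : ℤ) ^ (n - i) * (n.choose i : ℤ)) •
        (adams P i x - (i : K) ^ n * x) := by
    rw [adamsDiff_apply]
    simp only [smul_sub, Finset.sum_sub_distrib]
    congr 1
    have h : ((∑ i ∈ range (n + 1), ((-1 : ℤ) ^ (n - i) * (n.choose i : ℤ)) * (i : ℤ) ^ n : ℤ) : K) * x =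
        ((n.factorial : ℤ) : K) * x := by rw [sum_choose_mul_pow_eq_factorial n]
    rw [Int.cast_natCast] at h
    rw [← h, Int.cast_sum, Finset.sum_mul]
    refine Finset.sum_congr rfl fun i _ => ?_
    rw [zsmul_eq_mul]
    push_cast
    ring
  rw [e]
  refine AddSubgroup.sum_mem _ fun i _ => ?_
  exact AddSubgroup.zsmul_mem _ (adams_sub_pow_mul_mem P hK i n x hx) _

theorem nu_mem_of_mem (hK : HasSplitting K P) {n : ℕ} {x : K} (hx : x ∈ gammaFiltration P n)
    (k : ℕ) (hk : 1 ≤ k) : nu P k x ∈ gammaFiltration P n := by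
  rw [nu_eq_adamsDiff P hK k hk]
  exact adamsDiff_mem_of_mem hK hx k

theorem nu_sub_factorial_mem (hK : HasSplitting K P) {n : ℕ} (hn : 1 ≤ n) {x : K}
    (hx : x ∈ gammaFiltration P n) :
    nu P n x - (n.factorial : K) * x ∈ gammaFiltration P (n + 1) := by
  rw [nu_eq_adamsDiff P hK n hn]
  exact adamsDiff_sub_factorial_mem hK hx

/-- `[ν_k(y)]_k = 0` for `y ∈ F^n`, `1 ≤ k < n`. -/
theorem grZ_nu_of_lt (hK : HasSplitting K P) {n k : ℕ} (hk : 1 ≤ k) (hkn : k < n) {y : K}
    (hy : y ∈ gammaFiltration P n) : grZ P k ⟨nu P k y, nu_mem P k y⟩ = 0 := by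
  apply grZ_eq_zero
  exact gammaFiltration_antitone P (by omega) (nu_mem_of_mem hK hy k hk)

/-- `[ν_n(y)]_n = n! [y]_n` for `y ∈ F^n`, `n ≥ 1`. -/
theorem grZ_nu_self (hK : HasSplitting K P) {n : ℕ} (hn : 1 ≤ n) {y : K}
    (hy : y ∈ gammaFiltration P n) :
    grZ P n ⟨nu P n y, nu_mem P n y⟩ = (n.factorial : ℤ) • grZ P n ⟨y, hy⟩ := by
  have hw := nu_sub_factorial_mem hK hn hy
  have hw' : nu P n y - (n.factorial : K) * y ∈ gammaFiltration P n :=
    gammaFiltration_antitone P (Nat.le_succ n) hw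
  have h0 := grZ_eq_zero P n ⟨_, hw'⟩ hw
  have e : (⟨nu P n y, nu_mem P n y⟩ : gammaFiltration P n) =
      ⟨nu P n y - (n.factorial : K) * y, hw'⟩ + (n.factorial : ℤ) • ⟨y, hy⟩ := by
    apply Subtype.ext
    show nu P n y = nu P n y - (n.factorial : K) * y + ((n.factorial : ℤ) • (⟨y, hy⟩ : gammaFiltration P n) : gammaFiltration P n)
    rw [AddSubgroup.coe_zsmul, zsmul_eq_mul]
    push_cast
    ring
  rw [e, map_add, h0, zero_add, map_zsmul]

/-- `[y]_0 = ε(y) · 1` in `GrZ P`. -/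
theorem grZ_zero_eq (y : K) :
    grZ P 0 ⟨y, one_mem_gammaFiltration_zero P y⟩ = (P.aug y : ℤ) • (1 : KGr.GrZ P) := by
  have h1 : red P y ∈ gammaFiltration P 1 := mem_one_of_aug_zero P _ (aug_red P y)
  have h0 := grZ_eq_zero P 0 ⟨red P y, one_mem_gammaFiltration_zero P _⟩ h1
  have hone : grZ P 0 ⟨1, one_mem_gammaFiltration_zero P 1⟩ = (1 : KGr.GrZ P) := by
    rw [grZ_apply, ← map_one (Ideal.Quotient.mk (Ideal.span {KGr.tGen P}))]
    congr 1
    apply Subtype.ext
    simp
  have e : (⟨y, one_mem_gammaFiltration_zero P y⟩ : gammaFiltration P 0) =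
      ⟨red P y, one_mem_gammaFiltration_zero P _⟩ +
        (P.aug y : ℤ) • ⟨1, one_mem_gammaFiltration_zero P 1⟩ := by
    apply Subtype.ext
    show y = red P y + (((P.aug y : ℤ) • (⟨1, one_mem_gammaFiltration_zero P 1⟩ :
      gammaFiltration P 0) : gammaFiltration P 0) : K)
    rw [AddSubgroup.coe_zsmul, zsmul_eq_mul, red]
    simp
  rw [e, map_add, h0, zero_add, map_zsmul, hone]

end Groth.Agent.Lib.Helper16.KGr
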