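import Mathlib
import Groth.Agent.Lib.Helper16.KGr.ChPoly

/-!
# Evaluating rational power series at nilpotent elements; products determined by power sums (helper16)

* `nilEval ξ N h : ℚ⟦X⟧ →+* B` for `ξ ^ (N + 1) = 0` in a `ℚ`-algebra `B`.
* `prod_one_add_eq_one_of_psum_eq_zero`: if all power sums of the `η_l` vanish then `∏ (1 + η_l) = 1`.
-/

set_option autoImplicit false

namespace Groth.Agent.Lib.Helper16.KGr

open PowerSeries Groth.Agent.Lib.Helper44

section NilEval

variable {B : Type*} [CommRing B] [Algebra ℚ B]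

theorem aeval_trunc_coe (ξ : B) (N : ℕ) (h : ξ ^ (N + 1) = 0) (p : Polynomial ℚ) :
    Polynomial.aeval ξ (trunc (N + 1) (p : PowerSeries ℚ)) = Polynomial.aeval ξ p := by
  have hd : Polynomial.X ^ (N + 1) ∣ p - trunc (N + 1) (p : PowerSeries ℚ) := by
    rw [Polynomial.X_pow_dvd_iff]
    intro k hk
    rw [Polynomial.coeff_sub, coeff_trunc, if_pos hk, Polynomial.coeff_coe, sub_self]
  obtain ⟨q, hq⟩ := hd
  have h0 : Polynomial.aeval ξ (p - trunc (N + 1) (p : PowerSeries ℚ)) = 0 := by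
    rw [hq, map_mul, map_pow, Polynomial.aeval_X, h, zero_mul]
  rw [map_sub, sub_eq_zero] at h0
  exact h0.symm

/-- evaluation of rational power series at a nilpotent element. -/
noncomputable def nilEval (ξ : B) (N : ℕ) (h : ξ ^ (N + 1) = 0) : PowerSeries ℚ →+* B where
  toFun f := Polynomial.aeval ξ (trunc (N + 1) f)
  map_one' := by rw [trunc_one, map_one]
  map_mul' f g := by
    rw [← trunc_trunc_mul_trunc, ← map_mul, ← Polynomial.coe_mul, aeval_trunc_coe ξ N h]
  map_zero' := by rw [map_zero, map_zero]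
  map_add' f g := by rw [map_add, map_add]

theorem nilEval_apply (ξ : B) (N : ℕ) (h : ξ ^ (N + 1) = 0) (f : PowerSeries ℚ) :
    nilEval ξ N h f = Polynomial.aeval ξ (trunc (N + 1) f) := rfl

theorem nilEval_eq_sum (ξ : B) (N : ℕ) (h : ξ ^ (N + 1) = 0) (f : PowerSeries ℚ) :
    nilEval ξ N h f = ∑ n ∈ Finset.range (N + 1), algebraMap ℚ B (coeff n f) * ξ ^ n := by
  rw [nilEval_apply, Polynomial.aeval_def, eval₂_trunc_eq_sum_range]

theorem nilEval_coe (ξ : B) (N : ℕ) (h : ξ ^ (N + 1) = 0) (p : Polynomial ℚ) :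
    nilEval ξ N h (p : PowerSeries ℚ) = Polynomial.aeval ξ p := by
  rw [nilEval_apply, aeval_trunc_coe ξ N h]

theorem nilEval_X (ξ : B) (N : ℕ) (h : ξ ^ (N + 1) = 0) :
    nilEval ξ N h (X : PowerSeries ℚ) = ξ := by
  rw [← Polynomial.coe_X, nilEval_coe, Polynomial.aeval_X]

theorem sum_nilEval {ι : Type*} (s : Finset ι) (ξ : ι → B) (N : ℕ) (h : ∀ l, ξ l ^ (N + 1) = 0)
    (f : PowerSeries ℚ) :
    ∑ l ∈ s, nilEval (ξ l) N (h l) f =
      ∑ n ∈ Finset.range (N + 1), algebraMap ℚ B (coeff n f) * ∑ l ∈ s, ξ l ^ n := by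
  simp_rw [nilEval_eq_sum]
  rw [Finset.sum_comm]
  refine Finset.sum_congr rfl fun n _ => ?_
  rw [Finset.mul_sum]

end NilEval

section PowerSums

variable {B : Type*} [CommRing B] [Algebra ℚ B]

omit [Algebra ℚ B] in
theorem newton_one (k : ℕ) : newton k (1 : PowerSeries B) = 0 := by
  rcases k with _ | k
  · rfl
  · rw [newton_succ, logD_one, map_zero, mul_zero]

/-- if all power sums of the `η l` vanish, `∏ (1 + η l) = 1`. -/
theorem prod_one_add_eq_one_of_psum_eq_zero {ι : Type*} [DecidableEq ι] (s : Finset ι) (η : ι → B)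
    (h : ∀ k : ℕ, 1 ≤ k → ∑ l ∈ s, η l ^ k = 0) : ∏ l ∈ s, (1 + η l) = 1 := by
  have : IsAddTorsionFree B := IsAddTorsionFree.of_module_rat B
  have hS : constantCoeff (∏ l ∈ s, (1 + C (η l) * X : PowerSeries B)) = 1 :=
    constantCoeff_prod_eq_one s _ (fun i _ => by simp)
  have hcoeff := coeff_eq_of_newton_eq hS (constantCoeff_one (R := B)) s.card (fun j hj _ => by
    rw [newton_prod_one_add_C_mul_X s η j hj, h j hj, newton_one])
  rw [Finset.prod_one_add, Finset.sum_powerset]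
  have h2 : ∀ j ∈ Finset.range (s.card + 1),
      ∑ t ∈ s.powersetCard j, ∏ i ∈ t, η i = if j = 0 then 1 else 0 := by
    intro j hj
    have hj' : j ≤ s.card := by
      have := Finset.mem_range.mp hj
      omega
    rw [← coeff_prod_one_add_C_mul_X, hcoeff j hj', coeff_one]
  rw [Finset.sum_congr rfl h2, Finset.sum_ite_eq' (Finset.range (s.card + 1)) 0]
  simp

end PowerSums

end Groth.Agent.Lib.Helper16.KGr
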