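import Groth.Prelude.Def_KGr
import Groth.Agent.Lib.Helper41.DetLine

/-!
# Structure of the extended Rees ring of the γ-filtration and of `KGr.GrZ` (helper16)

* `mem_rees_iff`: `p ∈ rees P ↔ ∀ n : ℕ, p.coeff (-n) ∈ F^n`.
* `mk_eq_zero_iff`: the class of `p ∈ rees P` in `GrZ P` vanishes iff `p.coeff (-n) ∈ F^(n+1)` for all `n`.
* `piZ n : GrZ P →+ K ⧸ F^(n+1)`: the `n`-th graded component.
* `grK_of_mem_rees`: `grK P n x = 1 ⊗ [x t^{-n}]` whenever `x t^{-n}` lies in the Rees ring.
-/

set_option autoImplicit false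
universe v

open scoped TensorProduct
open LaurentPolynomial LambdaRing

namespace Groth.Agent.Lib.Helper16.KGr

open Groth.Agent.Lib.Helper41.AdamsGamma

variable {K : Type v} [CommRing K] [LambdaOps K] (P : PosStructure K)

/-- The coefficient condition describing the Rees ring. -/
def ReesCond (p : LaurentPolynomial K) : Prop :=
  ∀ n : ℕ, p.coeff (-(n : ℤ)) ∈ gammaFiltration P n

variable {P}

theorem ReesCond.coeff_mem {p : LaurentPolynomial K} (hp : ReesCond P p) (a : ℤ) :
    p.coeff a ∈ gammaFiltration P (-a).toNat := by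
  rcases le_or_gt a 0 with h | h
  · have := hp (-a).toNat
    rwa [Int.toNat_of_nonneg (by omega), neg_neg] at this
  · have : (-a).toNat = 0 := by omega
    rw [this]
    exact one_mem_gammaFiltration_zero P _

variable (P)

/-- The subring of Laurent polynomials cut out by the coefficient condition. -/
def reesSub : Subring (LaurentPolynomial K) where
  carrier := {p | ReesCond P p}
  mul_mem' := by
    intro p q hp hq n
    classical
    rw [AddMonoidAlgebra.coeff_mul]
    refine AddSubgroup.sum_mem _ fun a _ => AddSubgroup.sum_mem _ fun b _ => ?_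
    dsimp only
    split_ifs with h
    · have h1 := hp.coeff_mem a
      have h2 := hq.coeff_mem b
      exact gammaFiltration_antitone P (by omega) (mul_mem P h1 h2)
    · exact AddSubgroup.zero_mem _
  one_mem' := by
    intro n
    show (1 : LaurentPolynomial K).coeff (-(n : ℤ)) ∈ _
    rcases Nat.eq_zero_or_pos n with rfl | hn
    · exact one_mem_gammaFiltration_zero P _
    · rw [AddMonoidAlgebra.one_def, AddMonoidAlgebra.coeff_single, Finsupp.single_apply,
        if_neg (by omega)]
      exact AddSubgroup.zero_mem _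
  add_mem' := by
    intro p q hp hq n
    rw [AddMonoidAlgebra.coeff_add]
    exact AddSubgroup.add_mem _ (hp n) (hq n)
  zero_mem' := by
    intro n
    exact AddSubgroup.zero_mem _
  neg_mem' := by
    intro p hp n
    have : (-p).coeff (-(n : ℤ)) = -(p.coeff (-(n : ℤ))) := rfl
    rw [this]
    exact AddSubgroup.neg_mem _ (hp n)

theorem mem_reesSub {p : LaurentPolynomial K} : p ∈ reesSub P ↔ ReesCond P p := Iff.rfl

omit [LambdaOps K] in
theorem coeff_C_mul_T (x : K) (a b : ℤ) :
    (C x * T a : LaurentPolynomial K).coeff b = if a = b then x else 0 := by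
  rw [← single_eq_C_mul_T, AddMonoidAlgebra.coeff_single, Finsupp.single_apply]

omit [LambdaOps K] in
theorem coeff_mul_T (p : LaurentPolynomial K) (a b : ℤ) : (p * T a).coeff b = p.coeff (b - a) := by
  have : (T a : LaurentPolynomial K) = AddMonoidAlgebra.single a 1 := rfl
  rw [this, AddMonoidAlgebra.coeff_mul_single_apply, mul_one, sub_eq_add_neg]

theorem rees_le_reesSub : KGr.rees P ≤ reesSub P := by
  apply Subring.closure_le.mpr
  rintro p (rfl | ⟨n', x, hx, rfl⟩)
  · intro n
    have : (T 1 : LaurentPolynomial K) = C 1 * T 1 := by rw [map_one, one_mul]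
    rw [this, coeff_C_mul_T, if_neg (by omega)]
    exact AddSubgroup.zero_mem _
  · intro n
    rw [coeff_C_mul_T]
    split_ifs with h
    · have : n' = n := by omega
      subst this
      exact hx
    · exact AddSubgroup.zero_mem _

theorem C_mem_rees (x : K) : (C x : LaurentPolynomial K) ∈ KGr.rees P := by
  apply Subring.subset_closure
  refine Or.inr ⟨0, x, one_mem_gammaFiltration_zero P x, ?_⟩
  simp

theorem T_one_mem_rees : (T 1 : LaurentPolynomial K) ∈ KGr.rees P :=
  Subring.subset_closure (Set.mem_insert _ _)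

theorem monomial_mem_rees {x : K} {a : ℤ} (hx : x ∈ gammaFiltration P (-a).toNat) :
    (C x * T a : LaurentPolynomial K) ∈ KGr.rees P := by
  rcases le_or_gt a 0 with h | h
  · apply Subring.subset_closure
    refine Or.inr ⟨(-a).toNat, x, hx, ?_⟩
    rw [Int.toNat_of_nonneg (by omega), neg_neg]
  · have : (T a : LaurentPolynomial K) = T 1 ^ a.toNat := by
      rw [T_pow, mul_one, Int.toNat_of_nonneg (by omega)]
    rw [this]
    exact Subring.mul_mem _ (C_mem_rees P x) (Subring.pow_mem _ (T_one_mem_rees P) _)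

theorem monomial_mem_rees' {x : K} {n : ℕ} (hx : x ∈ gammaFiltration P n) :
    (C x * T (-(n : ℤ)) : LaurentPolynomial K) ∈ KGr.rees P :=
  Subring.subset_closure (Or.inr ⟨n, x, hx, rfl⟩)

theorem reesSub_le_rees : reesSub P ≤ KGr.rees P := by
  intro p hp
  rw [← AddMonoidAlgebra.sum_coeff_single p]
  refine Subring.sum_mem _ fun a _ => ?_
  rw [single_eq_C_mul_T]
  exact monomial_mem_rees P (ReesCond.coeff_mem hp a)

theorem rees_eq : KGr.rees P = reesSub P := le_antisymm (rees_le_reesSub P) (reesSub_le_rees P)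

theorem mem_rees_iff {p : LaurentPolynomial K} :
    p ∈ KGr.rees P ↔ ∀ n : ℕ, p.coeff (-(n : ℤ)) ∈ gammaFiltration P n := by
  rw [rees_eq]
  rfl

/-- The class of `p` in `GrZ P` vanishes iff its coefficients drop one step in the filtration. -/
theorem mk_eq_zero_iff (p : KGr.rees P) :
    (Ideal.Quotient.mk (Ideal.span {KGr.tGen P}) p = 0) ↔
      ∀ n : ℕ, (p : LaurentPolynomial K).coeff (-(n : ℤ)) ∈ gammaFiltration P (n + 1) := by
  rw [Ideal.Quotient.eq_zero_iff_mem, Ideal.mem_span_singleton]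
  constructor
  · rintro ⟨q, rfl⟩ n
    have h1 : ((KGr.tGen P * q : KGr.rees P) : LaurentPolynomial K) = (q : LaurentPolynomial K) * T 1 := by
      rw [mul_comm]
      rfl
    rw [h1, coeff_mul_T]
    have h2 := (mem_rees_iff P).mp q.2 (n + 1)
    have h3 : (-(n : ℤ) - 1) = -((n + 1 : ℕ) : ℤ) := by push_cast; ring
    rw [h3]
    exact h2
  · intro h
    have hq : (p : LaurentPolynomial K) * T (-1) ∈ KGr.rees P := by
      rw [mem_rees_iff]
      intro n
      rw [coeff_mul_T]
      rcases Nat.eq_zero_or_pos n with rfl | hn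
      · exact one_mem_gammaFiltration_zero P _
      · obtain ⟨m, rfl⟩ : ∃ m, n = m + 1 := ⟨n - 1, by omega⟩
        have h3 : (-((m + 1 : ℕ) : ℤ) - -1) = -(m : ℤ) := by push_cast; ring
        rw [h3]
        exact h m
    refine ⟨⟨_, hq⟩, ?_⟩
    apply Subtype.ext
    show (p : LaurentPolynomial K) = T 1 * ((p : LaurentPolynomial K) * T (-1))
    rw [mul_comm (p : LaurentPolynomial K), ← mul_assoc, ← T_add]
    simp

/-- The quotient map `rees P → GrZ P` as an additive map. -/
noncomputable def mkHom : KGr.rees P →+ KGr.GrZ P :=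
  (Ideal.Quotient.mk (Ideal.span {KGr.tGen P})).toAddMonoidHom

theorem mkHom_surjective : Function.Surjective (mkHom P) := Ideal.Quotient.mk_surjective

theorem mkHom_apply (p : KGr.rees P) : mkHom P p = Ideal.Quotient.mk (Ideal.span {KGr.tGen P}) p := rfl

/-- `p ↦ [coefficient of t^{-n}] mod F^{n+1}` on the Rees ring. -/
noncomputable def coeffHom (n : ℕ) : KGr.rees P →+ K ⧸ gammaFiltration P (n + 1) where
  toFun p := QuotientAddGroup.mk ((p : LaurentPolynomial K).coeff (-(n : ℤ)))
  map_zero' := rfl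
  map_add' _ _ := rfl

theorem ker_mkHom_le (n : ℕ) : (mkHom P).ker ≤ (coeffHom P n).ker := by
  intro p hp
  rw [AddMonoidHom.mem_ker, mkHom_apply, mk_eq_zero_iff] at hp
  rw [AddMonoidHom.mem_ker]
  exact (QuotientAddGroup.eq_zero_iff _).mpr (hp n)

/-- The `n`-th graded component `GrZ P → F^n/F^{n+1} ⊆ K/F^{n+1}`. -/
noncomputable def piZ (n : ℕ) : KGr.GrZ P →+ K ⧸ gammaFiltration P (n + 1) :=
  (mkHom P).liftOfRightInverse (Function.surjInv (mkHom_surjective P))
    (Function.rightInverse_surjInv (mkHom_surjective P)) ⟨coeffHom P n, ker_mkHom_le P n⟩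

theorem piZ_mk (n : ℕ) (p : KGr.rees P) :
    piZ P n (Ideal.Quotient.mk (Ideal.span {KGr.tGen P}) p) =
      QuotientAddGroup.mk ((p : LaurentPolynomial K).coeff (-(n : ℤ))) :=
  AddMonoidHom.liftOfRightInverse_comp_apply _ _ _ _ p

theorem eq_zero_of_piZ (g : KGr.GrZ P) (h : ∀ n, piZ P n g = 0) : g = 0 := by
  obtain ⟨p, rfl⟩ := Ideal.Quotient.mk_surjective g
  rw [mk_eq_zero_iff]
  intro n
  have := h n
  rw [piZ_mk] at this
  exact (QuotientAddGroup.eq_zero_iff _).mp this

/-- The class in degree `n` of an element of `F^n`. -/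
noncomputable def grZ (n : ℕ) : gammaFiltration P n →+ KGr.GrZ P where
  toFun x := Ideal.Quotient.mk (Ideal.span {KGr.tGen P})
    ⟨C (x : K) * T (-(n : ℤ)), monomial_mem_rees' P x.2⟩
  map_zero' := by
    rw [← map_zero (Ideal.Quotient.mk (Ideal.span {KGr.tGen P}))]
    congr 1
    apply Subtype.ext
    simp
  map_add' x y := by
    rw [← map_add (Ideal.Quotient.mk (Ideal.span {KGr.tGen P}))]
    congr 1
    apply Subtype.ext
    simp [add_mul]

theorem grZ_apply (n : ℕ) (x : gammaFiltration P n) :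
    grZ P n x = Ideal.Quotient.mk (Ideal.span {KGr.tGen P})
      ⟨C (x : K) * T (-(n : ℤ)), monomial_mem_rees' P x.2⟩ := rfl

theorem piZ_grZ (m n : ℕ) (x : gammaFiltration P n) :
    piZ P m (grZ P n x) = if n = m then QuotientAddGroup.mk (x : K) else 0 := by
  rw [grZ_apply, piZ_mk]
  show QuotientAddGroup.mk ((C (x : K) * T (-(n : ℤ)) : LaurentPolynomial K).coeff (-(m : ℤ))) = _
  rw [coeff_C_mul_T]
  by_cases h : n = m
  · rw [if_pos h, if_pos (by omega)]
  · rw [if_neg h, if_neg (by omega)]
    rfl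

theorem grZ_eq_zero (n : ℕ) (x : gammaFiltration P n) (hx : (x : K) ∈ gammaFiltration P (n + 1)) :
    grZ P n x = 0 := by
  rw [grZ_apply, mk_eq_zero_iff]
  intro m
  show (C (x : K) * T (-(n : ℤ)) : LaurentPolynomial K).coeff (-(m : ℤ)) ∈ _
  rw [coeff_C_mul_T]
  split_ifs with h
  · have : n = m := by omega
    subst this
    exact hx
  · exact AddSubgroup.zero_mem _

theorem mk_monomial_pos_eq_zero (x : K) (a : ℤ) (ha : 0 < a) (h : C x * T a ∈ KGr.rees P) :
    Ideal.Quotient.mk (Ideal.span {KGr.tGen P}) ⟨C x * T a, h⟩ = 0 := by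
  rw [mk_eq_zero_iff]
  intro m
  show (C x * T a : LaurentPolynomial K).coeff (-(m : ℤ)) ∈ _
  rw [coeff_C_mul_T, if_neg (by omega)]
  exact AddSubgroup.zero_mem _

/-- Induction principle: `GrZ P` is generated additively by the classes `grZ n x`. -/
theorem GrZ_induction {motive : KGr.GrZ P → Prop} (zero : motive 0)
    (add : ∀ a b, motive a → motive b → motive (a + b))
    (gr : ∀ (n : ℕ) (x : gammaFiltration P n), motive (grZ P n x)) (g : KGr.GrZ P) : motive g := by
  obtain ⟨⟨p, hp⟩, rfl⟩ := Ideal.Quotient.mk_surjective g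
  have hc := (mem_rees_iff P).mp hp
  have hc' : ∀ a : ℤ, p.coeff a ∈ gammaFiltration P (-a).toNat := fun a =>
    ReesCond.coeff_mem (P := P) hc a
  let f : ℤ → KGr.rees P := fun a => ⟨C (p.coeff a) * T a, monomial_mem_rees P (hc' a)⟩
  have key : (⟨p, hp⟩ : KGr.rees P) = ∑ a ∈ p.coeff.support, f a := by
    apply Subtype.ext
    rw [AddSubmonoidClass.coe_finsetSum]
    show p = ∑ a ∈ p.coeff.support, (C (p.coeff a) * T a : LaurentPolynomial K)
    conv_lhs => rw [← AddMonoidAlgebra.sum_coeff_single p]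
    rw [Finsupp.sum]
    exact Finset.sum_congr rfl fun a _ => single_eq_C_mul_T _ _
  rw [key, map_sum]
  apply Finset.sum_induction _ motive add zero
  intro a _
  rcases lt_or_ge 0 a with h | h
  · have := mk_monomial_pos_eq_zero P (p.coeff a) a h (monomial_mem_rees P (hc' a))
    show motive (Ideal.Quotient.mk _ (f a))
    rw [show f a = ⟨C (p.coeff a) * T a, monomial_mem_rees P (hc' a)⟩ from rfl, this]
    exact zero
  · have h2 := gr (-a).toNat ⟨p.coeff a, hc' a⟩
    rw [grZ_apply] at h2
    have e : f a = ⟨C (p.coeff a) * T (-((-a).toNat : ℤ)),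
        monomial_mem_rees' P (hc' a)⟩ := by
      apply Subtype.ext
      show (C (p.coeff a) * T a : LaurentPolynomial K) = C (p.coeff a) * T (-((-a).toNat : ℤ))
      rw [Int.toNat_of_nonneg (by omega), neg_neg]
    rw [e]
    exact h2

/-- Induction principle for `Gr P = ℚ ⊗ GrZ P`. -/
theorem Gr_induction {motive : KGr.Gr P → Prop} (zero : motive 0)
    (add : ∀ a b, motive a → motive b → motive (a + b))
    (smul : ∀ (q : ℚ) a, motive a → motive (q • a))
    (gr : ∀ (n : ℕ) (x : gammaFiltration P n), motive ((1 : ℚ) ⊗ₜ[ℤ] grZ P n x)) (g : KGr.Gr P) :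
    motive g := by
  induction g using TensorProduct.induction_on with
  | zero => exact zero
  | add a b ha hb => exact add a b ha hb
  | tmul q g =>
    have : q ⊗ₜ[ℤ] g = q • ((1 : ℚ) ⊗ₜ[ℤ] g) := by
      rw [TensorProduct.smul_tmul', smul_eq_mul, mul_one]
    rw [this]
    apply smul
    clear this
    induction g using GrZ_induction P with
    | zero => rw [TensorProduct.tmul_zero]; exact zero
    | add a b ha hb => rw [TensorProduct.tmul_add]; exact add _ _ ha hb
    | gr n x => exact gr n x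

/-- `grK` on an element whose monomial lies in the Rees ring. -/
theorem grK_of_mem (n : ℕ) (x : K) (hx : x ∈ gammaFiltration P n) :
    KGr.grK P (n : ℤ) x = (1 : ℚ) ⊗ₜ[ℤ] grZ P n ⟨x, hx⟩ := by
  have h : ∃ N : ℕ, 1 ≤ N ∧ C ((N : K) * x) * T (-(n : ℤ)) ∈ KGr.rees P :=
    ⟨1, le_rfl, by simpa using monomial_mem_rees' P hx⟩
  unfold KGr.grK
  rw [dif_pos h]
  set N := h.choose with hN
  have hN1 : 1 ≤ N := h.choose_spec.1
  have e : (Ideal.Quotient.mk (Ideal.span {KGr.tGen P})
      ⟨C ((N : K) * x) * T (-(n : ℤ)), h.choose_spec.2⟩ : KGr.GrZ P) = (N : ℤ) • grZ P n ⟨x, hx⟩ := by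
    rw [grZ_apply, zsmul_eq_mul, ← map_intCast (Ideal.Quotient.mk (Ideal.span {KGr.tGen P})),
      ← map_mul]
    congr 1
    apply Subtype.ext
    show (C ((N : K) * x) * T (-(n : ℤ)) : LaurentPolynomial K) =
      (((N : ℤ) : KGr.rees P) : LaurentPolynomial K) * (C x * T (-(n : ℤ)))
    rw [Subring.coe_intCast, map_mul, map_natCast, mul_assoc]
    simp
  rw [e, ← TensorProduct.smul_tmul]
  congr 1
  rw [zsmul_eq_mul]
  have : (N : ℚ) ≠ 0 := by
    have : 0 < N := hN1
    positivity
  push_cast
  rw [← hN]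
  field_simp

end Groth.Agent.Lib.Helper16.KGr
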