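import Groth.Agent.Lib.Helper16.KGr.ChMul
import Groth.Agent.Lib.Helper16.KGr.Bij
import Groth.Agent.Lib.Helper16.LambdaGamma

/-!
# Chern character of Adams operations; vanishing of high Chern classes (helper16)
-/

set_option autoImplicit false
universe v

open scoped TensorProduct
open LaurentPolynomial LambdaRing Finset

namespace Groth.Agent.Lib.Helper16.KGr

open Groth.Agent.Lib.Helper44
open Groth.Agent.Lib.Helper41.AdamsGamma
open Groth.Agent.Lib.Helper16

variable {K : Type v} [CommRing K] [LambdaOps K] {P : PosStructure K}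

/-- The Chern character as a ring homomorphism. -/
noncomputable def chRingHom (hK : HasSplitting K P) (d : ℕ) (hd : gammaFiltration P (d + 1) = ⊥) :
    K →+* KGr.Gr P where
  toFun := KGr.chK P d
  map_one' := chK_one (P := P) d
  map_mul' := chK_mul hK d hd
  map_zero' := (chHom P d).map_zero
  map_add' := chK_add P d

theorem chRingHom_apply (hK : HasSplitting K P) (d : ℕ) (hd : gammaFiltration P (d + 1) = ⊥) (x : K) :
    chRingHom hK d hd x = KGr.chK P d x := rfl

/-- Adams operations preserve the augmentation. -/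
theorem aug_adams (hK : HasSplitting K P) (j : ℕ) (x : K) : P.aug (adams P j x) = P.aug x := by
  have hpos : ∀ e ∈ P.pos, P.aug (adams P j e) = P.aug e := by
    intro e he
    obtain ⟨L, g, hg, s, hs, hsum⟩ := split_one hK e he
    rw [← hg.aug_comp, ← adams_map hg, ← hg.aug_comp e, ← hsum, adams_sum_lines L.posStr j s hs,
      aug_sum_lines L.posStr s hs, aug_sum_lines L.posStr (s.map (· ^ j)), Multiset.card_map]
    intro u hu
    obtain ⟨v, hv, rfl⟩ := Multiset.mem_map.mp hu
    exact isLine_pow L.posStr (hs v hv) j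
  obtain ⟨e, e', he, he', rfl⟩ := P.exists_sub x
  rw [adams_sub, map_sub, map_sub, hpos e he, hpos e' he']

/-- `ψ^j` commutes with the finite differences of the Adams operations. -/
theorem adamsDiff_adams (hK : HasSplitting K P) (k j : ℕ) (x : K) :
    adamsDiff P k (adams P j x) = adams P j (adamsDiff P k x) := by
  rw [adamsDiff_apply, adamsDiff_apply]
  show _ = adamsHom P j (∑ i ∈ range (k + 1), ((-1 : ℤ) ^ (k - i) * (k.choose i : ℤ)) • adams P i x)
  rw [map_sum]
  refine Finset.sum_congr rfl fun i _ => ?_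
  rw [map_zsmul]
  show _ • adams P i (adams P j x) = _ • adams P j (adams P i x)
  rw [adams_adams P hK, adams_adams P hK, Nat.mul_comm i j]

theorem grZ_adams (hK : HasSplitting K P) {n : ℕ} (j : ℕ) {y : K} (hy : y ∈ gammaFiltration P n) :
    grZ P n ⟨adams P j y, adams_mem_of_mem hK hy j⟩ = ((j : ℤ) ^ n) • grZ P n ⟨y, hy⟩ := by
  have hw := adams_sub_pow_mul_mem P hK j n y hy
  have hw' : adams P j y - (j : K) ^ n * y ∈ gammaFiltration P n :=
    gammaFiltration_antitone P (Nat.le_succ n) hw
  have h0 := grZ_eq_zero P n ⟨_, hw'⟩ hw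
  have e : (⟨adams P j y, adams_mem_of_mem hK hy j⟩ : gammaFiltration P n) =
      ⟨adams P j y - (j : K) ^ n * y, hw'⟩ + ((j : ℤ) ^ n) • ⟨y, hy⟩ := by
    apply Subtype.ext
    show adams P j y = adams P j y - (j : K) ^ n * y +
      ((((j : ℤ) ^ n) • (⟨y, hy⟩ : gammaFiltration P n) : gammaFiltration P n) : K)
    rw [AddSubgroup.coe_zsmul, zsmul_eq_mul]
    push_cast
    ring
  rw [e, map_add, h0, zero_add, map_zsmul]

theorem newton_chernSer_adams (hK : HasSplitting K P) (k : ℕ) (hk : 1 ≤ k) (j : ℕ) (x : K) :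
    newton k (chernSer P (adams P j x)) = ((j : ℚ) ^ k) • newton k (chernSer P x) := by
  rw [newton_chernSer, newton_chernSer]
  have h1 : nu P k (adams P j x) = adams P j (nu P k x) := by
    rw [nu_eq_adamsDiff P hK k hk, nu_eq_adamsDiff P hK k hk, adamsDiff_adams hK]
  have h2 : (⟨nu P k (adams P j x), nu_mem P k (adams P j x)⟩ : gammaFiltration P k) =
      ⟨adams P j (nu P k x), adams_mem_of_mem hK (nu_mem P k x) j⟩ := Subtype.ext h1
  rw [h2, grZ_adams hK j (nu_mem P k x), TensorProduct.tmul_smul, TensorProduct.smul_tmul',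
    TensorProduct.smul_tmul', zsmul_eq_mul, mul_one, smul_eq_mul, mul_one]
  push_cast
  rfl

/-- The Chern character of `ψ^j x`. -/
theorem chK_adams (hK : HasSplitting K P) (d : ℕ) (j : ℕ) (x : K) :
    KGr.chK P d (adams P j x) = algebraMap ℚ (KGr.Gr P) (P.aug x : ℚ) +
      ∑ k ∈ range d, ((j : ℚ) ^ (k + 1) / ((k + 1).factorial : ℚ)) •
        newton (k + 1) (chernSer P x) := by
  rw [chK_eq_chGen, chGen, aug_adams hK]
  congr 1
  refine Finset.sum_congr rfl fun k _ => ?_
  rw [newton_chernSer_adams hK (k + 1) (by omega), smul_smul]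
  congr 1
  ring

/-- `ψ^k(x)` is the `k`-th Newton sum of `λ_t(x)`. -/
theorem adams_eq_newton (k : ℕ) (hk : 1 ≤ k) (x : K) :
    adams P k x = newton k (lamSeries x) := by
  obtain ⟨k, rfl⟩ : ∃ m, k = m + 1 := ⟨k - 1, by omega⟩
  have hc : PowerSeries.constantCoeff (lamSeries x) = 1 := by
    rw [← PowerSeries.coeff_zero_eq_constantCoeff_apply, lamSeries, PowerSeries.coeff_mk,
      LambdaOps.lam_zero]
  have h1 : adamsSeries P x = PowerSeries.C (P.aug x : K) - PowerSeries.X * logD (negLam x) := by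
    rw [adamsSeries_eq, logD, mul_assoc]
  rw [adams, h1, map_sub, PowerSeries.coeff_succ_X_mul, PowerSeries.coeff_C,
    if_neg (Nat.succ_ne_zero k), zero_sub, coeff_logD_eq, negLam, newton_rescale _ hc]
  have : (-1 : K) ^ k * ((-1) ^ (k + 1) * newton (k + 1) (lamSeries x)) =
      -(((-1 : K) ^ k) ^ 2 * newton (k + 1) (lamSeries x)) := by ring
  rw [this, ← pow_mul, mul_comm k 2, pow_mul, neg_one_sq, one_pow, one_mul, neg_neg]

/-- `γ^k(e - m) = 0` for `k > m = ε(e)`, `e` positive. -/
theorem gamma_sub_aug_eq_zero (e : K) (he : e ∈ P.pos) (k : ℕ) (hk : (P.aug e).toNat < k) :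
    gamma k (e - ((P.aug e).toNat : K)) = 0 := by
  have hlam : ∀ i, (P.aug e).toNat < i → LambdaOps.lam i e = 0 := by
    intro i hi
    apply P.lam_eq_zero e he i
    have := P.aug_pos e he
    omega
  have h := congrArg (PowerSeries.coeff k) (qPoly_coe P e (P.aug e).toNat hlam)
  rw [Polynomial.coeff_coe, gamSeries, PowerSeries.coeff_mk] at h
  rw [← h]
  exact Polynomial.coeff_eq_zero_of_natDegree_lt
    (lt_of_le_of_lt (qPoly_natDegree_le e (P.aug e).toNat) hk)

theorem natCast_toNat_aug (e : K) (he : e ∈ P.pos) : (((P.aug e).toNat : ℕ) : K) = (P.aug e : K) := by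
  have h := P.aug_pos e he
  have h1 : ((P.aug e).toNat : ℤ) = P.aug e := Int.toNat_of_nonneg h.le
  have h2 : (P.aug e : K) = (((P.aug e).toNat : ℤ) : K) := by rw [h1]
  rw [h2, Int.cast_natCast]

theorem grK_zero (n : ℕ) : KGr.grK P (n : ℤ) (0 : K) = 0 := by
  rw [grK_of_mem P n 0 (zero_mem _)]
  have : (⟨0, zero_mem _⟩ : gammaFiltration P n) = 0 := rfl
  rw [this, map_zero, TensorProduct.tmul_zero]

/-- Chern classes above the augmentation vanish. -/
theorem chern_eq_zero_of_aug_lt (e : K) (he : e ∈ P.pos) (k : ℕ) (hk : (P.aug e).toNat < k) :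
    KGr.chern P k e = 0 := by
  rw [KGr.chern, ← natCast_toNat_aug e he, gamma_sub_aug_eq_zero e he k hk]
  exact grK_zero k

/-- Chern classes above the length of the filtration vanish. -/
theorem chern_eq_zero_of_lt (d : ℕ) (hd : gammaFiltration P (d + 1) = ⊥) (x : K) (k : ℕ)
    (hk : d < k) : KGr.chern P k x = 0 := by
  have h1 : gamma k (red P x) ∈ gammaFiltration P (d + 1) :=
    gammaFiltration_antitone P (by omega) (gamma_red_mem P x k)
  rw [hd, AddSubgroup.mem_bot] at h1
  rw [KGr.chern]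
  have : x - (P.aug x : K) = red P x := rfl
  rw [this, h1]
  exact grK_zero k

/-- Newton sums of the Chern series above the length of the filtration vanish. -/
theorem newton_chernSer_eq_zero (d : ℕ) (hd : gammaFiltration P (d + 1) = ⊥) (x : K) (k : ℕ)
    (hk : d < k) : newton k (chernSer P x) = 0 := by
  rw [newton_chernSer]
  have h1 : nu P k x ∈ gammaFiltration P (d + 1) :=
    gammaFiltration_antitone P (by omega) (nu_mem P k x)
  rw [hd, AddSubgroup.mem_bot] at h1
  have : (⟨nu P k x, nu_mem P k x⟩ : gammaFiltration P k) = 0 := Subtype.ext h1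
  rw [this, map_zero, TensorProduct.tmul_zero]

/-- positive-degree Chern classes are nilpotent. -/
theorem isNilpotent_chern (d : ℕ) (hd : gammaFiltration P (d + 1) = ⊥) (x : K) (k : ℕ)
    (hk : 1 ≤ k) : IsNilpotent (KGr.chern P k x) := by
  refine ⟨d + 1, ?_⟩
  have hx := gamma_red_mem P x k
  have h0 : KGr.chern P k x =
      toGr P ⟨C (gamma k (red P x)) * T (-(k : ℤ)), monomial_mem_rees' P hx⟩ := by
    rw [toGr_monomial P k _ hx, ← grK_of_mem]
    rfl
  rw [h0, ← map_pow]
  have h1 : gamma k (red P x) ^ (d + 1) ∈ gammaFiltration P (d + 1) :=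
    gammaFiltration_antitone P (by nlinarith) (pow_mem P hx (d + 1))
  rw [hd, AddSubgroup.mem_bot] at h1
  have h2 : (⟨C (gamma k (red P x)) * T (-(k : ℤ)), monomial_mem_rees' P hx⟩ : KGr.rees P) ^ (d + 1)
      = 0 := by
    apply Subtype.ext
    show (C (gamma k (red P x)) * T (-(k : ℤ)) : LaurentPolynomial K) ^ (d + 1) = 0
    rw [mul_pow, ← map_pow, h1, map_zero, zero_mul]
  rw [h2, map_zero]

end Groth.Agent.Lib.Helper16.KGr
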