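import Mathlib
import Groth.Prelude.Def_KGr
import Groth.Agent.Lib.Helper16.KGr.NilEval

/-!
# The Todd series and the key power-series identity (helper16)

`β_d(t) (e^t - 1) = t e^t F_d(t)` with `F_d ≡ 1 mod t^{d+1}`, where `β_d = KGr.toddTrunc d`.
-/

set_option autoImplicit false

namespace Groth.Agent.Lib.Helper16.KGr

open PowerSeries

/-- `(e^t - 1) / t`. -/
noncomputable def expQuot : PowerSeries ℚ := PowerSeries.mk fun n => 1 / ((n + 1).factorial : ℚ)

theorem X_mul_expQuot : X * expQuot = exp ℚ - 1 := by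
  ext n
  rcases n with _ | n
  · simp [expQuot]
  · rw [coeff_succ_X_mul, expQuot, coeff_mk, map_sub, coeff_exp, coeff_one, if_neg (Nat.succ_ne_zero n)]
    simp

theorem bernoulli_mul_expQuot : bernoulli'PowerSeries ℚ * expQuot = exp ℚ := by
  apply X_mul_cancel
  rw [← mul_assoc, mul_comm X, mul_assoc, X_mul_expQuot, bernoulli'PowerSeries_mul_exp_sub_one]

theorem toddTrunc_eq_trunc (d : ℕ) : KGr.toddTrunc d = trunc (d + 1) (bernoulli'PowerSeries ℚ) := by
  ext k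
  rw [coeff_trunc, KGr.toddTrunc, Polynomial.finsetSum_coeff]
  simp only [Polynomial.coeff_C_mul_X_pow]
  rw [Finset.sum_ite_eq (Finset.range (d + 1)) k]
  by_cases hk : k < d + 1
  · rw [if_pos (Finset.mem_range.mpr hk), if_pos hk, bernoulli'PowerSeries, coeff_mk]
    simp
  · rw [if_neg (fun h => hk (Finset.mem_range.mp h)), if_neg hk]

/-- the correction factor `F_d = β_d · (e^t - 1)/t · e^{-t}`. -/
noncomputable def toddCorr (d : ℕ) : PowerSeries ℚ :=
  (KGr.toddTrunc d : PowerSeries ℚ) * expQuot * evalNegHom (exp ℚ)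

theorem toddTrunc_mul_exp_sub_one (d : ℕ) :
    (KGr.toddTrunc d : PowerSeries ℚ) * (exp ℚ - 1) = X * exp ℚ * toddCorr d := by
  have h := exp_mul_exp_neg_eq_one (A := ℚ)
  rw [toddCorr, ← X_mul_expQuot]
  calc (KGr.toddTrunc d : PowerSeries ℚ) * (X * expQuot)
      = X * ((KGr.toddTrunc d : PowerSeries ℚ) * expQuot) * (exp ℚ * evalNegHom (exp ℚ)) := by
        rw [h]; ring
    _ = X * exp ℚ * ((KGr.toddTrunc d : PowerSeries ℚ) * expQuot * evalNegHom (exp ℚ)) := by ring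

theorem X_pow_dvd_toddCorr_sub_one (d : ℕ) : (X : PowerSeries ℚ) ^ (d + 1) ∣ toddCorr d - 1 := by
  have h := exp_mul_exp_neg_eq_one (A := ℚ)
  have h1 : (1 : PowerSeries ℚ) = bernoulli'PowerSeries ℚ * expQuot * evalNegHom (exp ℚ) := by
    rw [bernoulli_mul_expQuot, h]
  have h2 := eq_X_pow_mul_shift_add_trunc (d + 1) (bernoulli'PowerSeries ℚ)
  rw [← toddTrunc_eq_trunc] at h2
  have h3 : toddCorr d - 1 = X ^ (d + 1) *
      (-(PowerSeries.mk fun i => coeff (i + (d + 1)) (bernoulli'PowerSeries ℚ)) * expQuot *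
        evalNegHom (exp ℚ)) := by
    conv_lhs => rw [h1, toddCorr]
    conv_lhs => rw [h2]
    ring
  exact ⟨_, h3⟩

theorem coeff_toddCorr_sub_one_pow (d k n : ℕ) (hk : 1 ≤ k) (hn : n ≤ d) :
    coeff n ((toddCorr d - 1) ^ k) = 0 := by
  have h1 : (X : PowerSeries ℚ) ^ (d + 1) ∣ (toddCorr d - 1) ^ k :=
    dvd_trans (X_pow_dvd_toddCorr_sub_one d) (dvd_pow_self _ (by omega))
  exact (X_pow_dvd_iff.mp h1) n (by omega)

theorem coeff_rescale_exp (j n : ℕ) :
    coeff n (rescale (j : ℚ) (exp ℚ)) = (j : ℚ) ^ n / (n.factorial : ℚ) := by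
  rw [coeff_rescale, coeff_exp]
  simp [div_eq_mul_inv]

section Eval

variable {B : Type*} [CommRing B] [Algebra ℚ B]

/-- the key identity at a nilpotent element. -/
theorem aeval_toddTrunc_mul (ξ : B) (N : ℕ) (h : ξ ^ (N + 1) = 0) (d : ℕ) :
    Polynomial.aeval ξ (KGr.toddTrunc d) * (nilEval ξ N h (exp ℚ) - 1) =
      ξ * nilEval ξ N h (exp ℚ) * nilEval ξ N h (toddCorr d) := by
  have := congrArg (nilEval ξ N h) (toddTrunc_mul_exp_sub_one d)
  rwa [map_mul, map_sub, map_one, nilEval_coe, map_mul, map_mul, nilEval_X] at this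

theorem nilEval_exp_pow (ξ : B) (N : ℕ) (h : ξ ^ (N + 1) = 0) (j : ℕ) :
    nilEval ξ N h (exp ℚ) ^ j = nilEval ξ N h (rescale (j : ℚ) (exp ℚ)) := by
  rw [← map_pow, exp_pow_eq_rescale_exp]

theorem isUnit_nilEval_exp (ξ : B) (N : ℕ) (h : ξ ^ (N + 1) = 0) :
    IsUnit (nilEval ξ N h (exp ℚ)) := by
  have h1 := congrArg (nilEval ξ N h) (exp_mul_exp_neg_eq_one (A := ℚ))
  rw [map_mul, map_one] at h1
  exact IsUnit.of_mul_eq_one _ h1

end Eval

end Groth.Agent.Lib.Helper16.KGr
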