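import Groth.Agent.Lib.Helper16.KGr.Todd1
import Groth.Agent.Lib.Helper16.KGr.ToddSeries

/-!
# Chern roots in a splitting algebra of `Gr P` (helper16)
-/

set_option autoImplicit false
universe v

open scoped TensorProduct
open LambdaRing Finset

namespace Groth.Agent.Lib.Helper16.KGr

open Groth.Agent.Lib.Helper44
open Groth.Agent.Lib.Helper41.AdamsGamma
open Groth.Agent.Lib.Helper16

section Generic

theorem exists_fin_of_card {S : Type*} (ms : Multiset S) (m : ℕ) (h : Multiset.card ms = m) :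
    ∃ ξ : Fin m → S, ms = Finset.univ.val.map ξ := by
  induction ms using Quotient.inductionOn with
  | _ l =>
    have hl : l.length = m := h
    subst hl
    refine ⟨l.get, ?_⟩
    rw [Fin.univ_val_map, List.ofFn_get]
    rfl

theorem coeff_sum_C_mul_X_pow_sub {R : Type*} [CommRing R] (m : ℕ) (a : ℕ → R) (j : ℕ) (hj : j ≤ m) :
    (∑ i ∈ range (m + 1), Polynomial.C (a i) * Polynomial.X ^ (m - i)).coeff (m - j) = a j := by
  rw [Polynomial.finsetSum_coeff, Finset.sum_eq_single j]
  · rw [Polynomial.coeff_C_mul_X_pow, if_pos rfl]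
  · intro i hi hij
    rw [Polynomial.coeff_C_mul_X_pow, if_neg]
    have := mem_range.mp hi
    omega
  · intro h
    exact absurd (mem_range.mpr (by omega)) h

/-- the monic polynomial `Σ a_i X^{m-i}` with `a_0 = 1`. -/
theorem monic_sum_C_mul_X_pow_sub {R : Type*} [CommRing R] [Nontrivial R] (m : ℕ) (a : ℕ → R)
    (h0 : a 0 = 1) :
    (∑ i ∈ range (m + 1), Polynomial.C (a i) * Polynomial.X ^ (m - i)).Monic ∧
      (∑ i ∈ range (m + 1), Polynomial.C (a i) * Polynomial.X ^ (m - i)).natDegree = m := by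
  have hq : (∑ i ∈ range m, Polynomial.C (a (i + 1)) * Polynomial.X ^ (m - (i + 1))).degree <
      (m : WithBot ℕ) := by
    refine lt_of_le_of_lt (Polynomial.degree_sum_le _ _) ?_
    refine (Finset.sup_lt_iff (WithBot.bot_lt_coe m)).mpr ?_
    intro i hi
    refine lt_of_le_of_lt (Polynomial.degree_C_mul_X_pow_le _ _) ?_
    have := mem_range.mp hi
    exact WithBot.coe_lt_coe.mpr (by omega : m - (i + 1) < m)
  have e : (∑ i ∈ range (m + 1), Polynomial.C (a i) * Polynomial.X ^ (m - i)) =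
      Polynomial.X ^ m + ∑ i ∈ range m, Polynomial.C (a (i + 1)) * Polynomial.X ^ (m - (i + 1)) := by
    rw [Finset.sum_range_succ', h0, map_one, one_mul, Nat.sub_zero, add_comm]
  rw [e]
  refine ⟨Polynomial.monic_X_pow_add hq, ?_⟩
  rw [Polynomial.natDegree_add_eq_left_of_degree_lt, Polynomial.natDegree_X_pow]
  rwa [Polynomial.degree_X_pow]

/-- a monic polynomial with nilpotent lower coefficients has nilpotent roots (here in the form
`∏ (X + C ξ_l) = Σ a_i X^{m-i}`). -/
theorem isNilpotent_of_prod_X_add_C {S : Type*} [CommRing S] (m : ℕ) (a : ℕ → S)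
    (ha : ∀ i, 1 ≤ i → IsNilpotent (a i)) (h0 : a 0 = 1) (ξ : Fin m → S)
    (h : ∑ i ∈ range (m + 1), Polynomial.C (a i) * Polynomial.X ^ (m - i) =
      ∏ l : Fin m, (Polynomial.X + Polynomial.C (ξ l))) (l : Fin m) : IsNilpotent (ξ l) := by
  have hm : m ≠ 0 := by
    rintro rfl
    exact l.elim0
  have h1 := congrArg (Polynomial.eval (-ξ l)) h
  rw [Polynomial.eval_prod, Finset.prod_eq_zero (Finset.mem_univ l) (by simp),
    Polynomial.eval_finsetSum, Finset.sum_range_succ', h0] at h1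
  simp only [Polynomial.eval_mul, Polynomial.eval_C, Polynomial.eval_pow, Polynomial.eval_X, one_mul,
    Nat.sub_zero] at h1
  have h2 : (-ξ l) ^ m = -∑ i ∈ range m, a (i + 1) * (-ξ l) ^ (m - (i + 1)) :=
    eq_neg_of_add_eq_zero_right h1
  have h3 : IsNilpotent ((-ξ l) ^ m) := by
    rw [h2, ← mem_nilradical]
    refine neg_mem (Ideal.sum_mem _ fun i _ => ?_)
    exact Ideal.mul_mem_right _ _ (mem_nilradical.mpr (ha (i + 1) (by omega)))
  have h4 : IsNilpotent (-ξ l) := (IsNilpotent.pow_iff_pos hm).mp h3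
  have := h4.neg
  rwa [neg_neg] at this

end Generic

section Roots

variable {A : Type v} [CommRing A] [Algebra ℚ A]
variable {S : Type v} [CommRing S] [Algebra ℚ S] (φ : A →+* S) {m : ℕ} (ξ : Fin m → S)
variable (Ser : PowerSeries A) (hSer0 : PowerSeries.constantCoeff Ser = 1)
  (hser : PowerSeries.map φ Ser = ∏ l : Fin m, (1 + PowerSeries.C (ξ l) * PowerSeries.X))

theorem map_smul_rat (q : ℚ) (a : A) : φ (q • a) = algebraMap ℚ S q * φ a := by
  rw [Algebra.smul_def, map_mul, RingHom.map_rat_algebraMap]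

omit [Algebra ℚ A] [Algebra ℚ S] in
include hSer0 hser in
/-- power sums of the roots are the Newton sums of the series. -/
theorem psum_roots (k : ℕ) (hk : 1 ≤ k) : ∑ l : Fin m, ξ l ^ k = φ (newton k Ser) := by
  rw [map_newton φ k hSer0, hser, newton_prod_one_add_C_mul_X _ _ _ hk]

variable (d : ℕ) (hnewt : ∀ k, d < k → newton k Ser = 0)

omit [Algebra ℚ A] [Algebra ℚ S] in
include hSer0 hser hnewt in
theorem psum_roots_eq_zero (k : ℕ) (hk : d < k) : ∑ l : Fin m, ξ l ^ k = 0 := by
  rw [psum_roots φ ξ Ser hSer0 hser k (by omega), hnewt k hk, map_zero]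

variable (N : ℕ) (hN : ∀ l, ξ l ^ (N + 1) = 0)

omit [Algebra ℚ A] in
include hSer0 hser hnewt in
/-- `Σ_l G(ξ_l)` for a series `G` vanishing to order `> d`. -/
theorem sum_nilEval_eq_zero (G : PowerSeries ℚ) (hG : ∀ n, n ≤ d → PowerSeries.coeff n G = 0) :
    ∑ l : Fin m, nilEval (ξ l) N (hN l) G = 0 := by
  rw [sum_nilEval]
  refine Finset.sum_eq_zero fun n _ => ?_
  by_cases hn : n ≤ d
  · rw [hG n hn, map_zero, zero_mul]
  · rw [psum_roots_eq_zero φ ξ Ser hSer0 hser d hnewt n (by omega), mul_zero]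

omit [Algebra ℚ A] in
include hSer0 hser hnewt in
/-- the product of the correction factors is `1`. -/
theorem prod_nilEval_toddCorr : ∏ l : Fin m, nilEval (ξ l) N (hN l) (toddCorr d) = 1 := by
  classical
  have h := prod_one_add_eq_one_of_psum_eq_zero (Finset.univ : Finset (Fin m))
    (fun l => nilEval (ξ l) N (hN l) (toddCorr d - 1)) (fun k hk => by
      simp_rw [← map_pow]
      exact sum_nilEval_eq_zero φ ξ Ser hSer0 hser d hnewt N hN _
        (fun n hn => coeff_toddCorr_sub_one_pow d k n hk hn))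
  simp_rw [map_sub, map_one, add_sub_cancel] at h
  exact h

include hSer0 hser hnewt in
/-- `Σ_l exp(ξ_l)^j` through the Newton sums. -/
theorem sum_exp_pow (r : ℕ) (hNd : N = d + r) (j : ℕ) :
    ∑ l : Fin m, nilEval (ξ l) N (hN l) (PowerSeries.exp ℚ) ^ j =
      φ (algebraMap ℚ A (m : ℚ) + ∑ k ∈ range d, ((j : ℚ) ^ (k + 1) / ((k + 1).factorial : ℚ)) •
        newton (k + 1) Ser) := by
  simp_rw [nilEval_exp_pow]
  rw [sum_nilEval, map_add, RingHom.map_rat_algebraMap, map_sum,
    Finset.sum_range_succ']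
  subst hNd
  rw [Finset.sum_range_add]
  have htail : ∑ x ∈ range r, algebraMap ℚ S (PowerSeries.coeff (d + x + 1)
      (PowerSeries.rescale (j : ℚ) (PowerSeries.exp ℚ))) * ∑ l : Fin m, ξ l ^ (d + x + 1) = 0 := by
    refine Finset.sum_eq_zero fun x _ => ?_
    rw [psum_roots_eq_zero φ ξ Ser hSer0 hser d hnewt _ (by omega), mul_zero]
  rw [htail, add_zero, add_comm]
  congr 1
  · rw [coeff_rescale_exp]
    simp
  · refine Finset.sum_congr rfl fun k _ => ?_
    rw [map_smul_rat, coeff_rescale_exp, psum_roots φ ξ Ser hSer0 hser (k + 1) (by omega)]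

include hser in
/-- the value of the Todd polynomial at the coefficients of the series, through the roots. -/
theorem map_aeval_toddPoly (r : ℕ) (hdm : d = m + r) (c : Fin d → A)
    (hc : ∀ i : Fin d, c i = PowerSeries.coeff ((i : ℕ) + 1) Ser) :
    φ.toRatAlgHom (MvPolynomial.aeval c (KGr.toddPoly d)) =
      ∏ l : Fin m, Polynomial.aeval (ξ l) (KGr.toddTrunc d) := by
  classical
  subst hdm
  set ξ' : Fin (m + r) → S := Fin.append ξ (fun _ => 0) with hξ'
  -- step 2
  have h2 : ∀ i : Fin (m + r), φ.toRatAlgHom (c i) =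
      MvPolynomial.aeval ξ' (MvPolynomial.esymm (Fin (m + r)) ℚ ((i : ℕ) + 1)) := by
    intro i
    rw [MvPolynomial.esymm, map_sum]
    simp_rw [map_prod, MvPolynomial.aeval_X]
    rw [← coeff_prod_one_add_C_mul_X, Fin.prod_univ_add]
    simp_rw [hξ', Fin.append_left, Fin.append_right]
    simp only [map_zero, zero_mul, add_zero, Finset.prod_const_one, mul_one]
    rw [← hser, PowerSeries.coeff_map, hc i]
    rfl
  -- step 4
  have h4 : MvPolynomial.aeval (fun i : Fin (m + r) => MvPolynomial.esymm (Fin (m + r)) ℚ ((i : ℕ) + 1))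
      (KGr.toddPoly (m + r)) =
      ∏ i : Fin (m + r), Polynomial.aeval (MvPolynomial.X i : MvPolynomial (Fin (m + r)) ℚ)
        (KGr.toddTrunc (m + r)) := by
    have h := (MvPolynomial.esymmAlgEquiv (Fin (m + r)) ℚ (Fintype.card_fin (m + r))).apply_symm_apply
      ⟨∏ i : Fin (m + r), Polynomial.aeval (MvPolynomial.X i) (KGr.toddTrunc (m + r)),
        KGr.isSymmetric_prod_aeval (m + r) (KGr.toddTrunc (m + r))⟩
    have h' := congrArg Subtype.val h
    rw [MvPolynomial.esymmAlgEquiv_apply, MvPolynomial.esymmAlgHom_apply] at h'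
    exact h'
  rw [MvPolynomial.comp_aeval_apply]
  simp_rw [h2]
  have h3 := MvPolynomial.aeval_bind₁ ξ'
    (fun i : Fin (m + r) => MvPolynomial.esymm (Fin (m + r)) ℚ ((i : ℕ) + 1)) (KGr.toddPoly (m + r))
  rw [← h3]
  have h5 : MvPolynomial.bind₁ (fun i : Fin (m + r) => MvPolynomial.esymm (Fin (m + r)) ℚ ((i : ℕ) + 1))
      (KGr.toddPoly (m + r)) = _ := h4
  rw [h5, map_prod]
  simp_rw [← Polynomial.aeval_algHom_apply, MvPolynomial.aeval_X]
  rw [Fin.prod_univ_add]
  simp_rw [hξ', Fin.append_left, Fin.append_right]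
  have h0 : Polynomial.aeval (0 : S) (KGr.toddTrunc (m + r)) = 1 := by
    have hc0 : (KGr.toddTrunc (m + r)).coeff 0 = 1 := by
      rw [toddTrunc_eq_trunc, PowerSeries.coeff_trunc,
        if_pos (Nat.succ_pos _), bernoulli'PowerSeries, PowerSeries.coeff_mk]
      simp
    rw [Polynomial.aeval_def, Polynomial.eval₂_at_zero, hc0, map_one]
  rw [h0, Finset.prod_const_one, mul_one]

end Roots

end Groth.Agent.Lib.Helper16.KGr
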