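import Groth.Agent.Lib.Helper16.KGr.Todd2

/-!
# `td(e) · ch(λ₋₁(e^∨)) = c^m(e)`: the root computation (helper16)
-/

set_option autoImplicit false
universe v

open scoped TensorProduct
open LambdaRing Finset

namespace Groth.Agent.Lib.Helper16.KGr

open Groth.Agent.Lib.Helper44
open Groth.Agent.Lib.Helper41.AdamsGamma
open Groth.Agent.Lib.Helper16

section GenericB

/-- from the polynomial factorisation `Σ a_i X^{m-i} = ∏ (X + ξ_l)` to the power series
factorisation `Σ a_i X^i = ∏ (1 + ξ_l X)`. -/
theorem map_ser_eq_prod {A S : Type*} [CommRing A] [CommRing S] (φ : A →+* S) (m : ℕ) (a : ℕ → A)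
    (ξ : Fin m → S)
    (h : (∑ i ∈ range (m + 1), Polynomial.C (a i) * Polynomial.X ^ (m - i)).map φ =
      ∏ l : Fin m, (Polynomial.X + Polynomial.C (ξ l)))
    (Ser : PowerSeries A) (hSer : ∀ i, PowerSeries.coeff i Ser = a i) (ha : ∀ i, m < i → a i = 0) :
    PowerSeries.map φ Ser = ∏ l : Fin m, (1 + PowerSeries.C (ξ l) * PowerSeries.X) := by
  classical
  ext j
  rw [PowerSeries.coeff_map, hSer, coeff_prod_one_add_C_mul_X]
  by_cases hj : j ≤ m
  · have h1 := congrArg (fun q => Polynomial.coeff q (m - j)) h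
    simp only [Polynomial.coeff_map] at h1
    rw [coeff_sum_C_mul_X_pow_sub m a j hj,
      Finset.prod_X_add_C_coeff _ _ (by rw [Finset.card_univ, Fintype.card_fin]; omega),
      Finset.card_univ, Fintype.card_fin] at h1
    rw [h1]
    congr 2
    omega
  · rw [ha j (by omega), map_zero, Finset.powersetCard_eq_empty.mpr, Finset.sum_empty]
    rw [Finset.card_univ, Fintype.card_fin]
    omega

/-- finitely many nilpotent elements have a common exponent. -/
theorem exists_pow_eq_zero_of_fin {S : Type*} [CommRing S] {m : ℕ} (ξ : Fin m → S)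
    (h : ∀ l, IsNilpotent (ξ l)) : ∃ n, ∀ l, ξ l ^ n = 0 := by
  choose n hn using h
  refine ⟨∑ l, n l, fun l => ?_⟩
  exact pow_eq_zero_of_le (Finset.single_le_sum (fun _ _ => Nat.zero_le _) (Finset.mem_univ l)) (hn l)

/-- Vieta: `∏ (E_l - 1) = Σ_i (-1)^{m-i} e_i(E)`. -/
theorem prod_sub_one_eq {S : Type*} [CommRing S] {m : ℕ} (E : Fin m → S) :
    ∏ l : Fin m, (E l - 1) = ∑ i ∈ range (m + 1),
      (∑ t ∈ (Finset.univ : Finset (Fin m)).powersetCard i, ∏ l ∈ t, E l) * (-1) ^ (m - i) := by
  classical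
  simp_rw [sub_eq_add_neg]
  rw [Finset.prod_add, Finset.sum_powerset, Finset.card_univ, Fintype.card_fin]
  refine Finset.sum_congr rfl fun i _ => ?_
  rw [Finset.sum_mul]
  refine Finset.sum_congr rfl fun t ht => ?_
  rw [Finset.prod_const, Finset.card_sdiff_of_subset (Finset.subset_univ t), Finset.card_univ,
    Fintype.card_fin, (Finset.mem_powersetCard.mp ht).2]

end GenericB

section L3

variable {K : Type*} [CommRing K] [LambdaOps K] (P : PosStructure K)
variable {S : Type*} [CommRing S] [Algebra ℚ S]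

/-- if `ρ(ψ^j x) = Σ_l E_l^j` for all `j ≥ 1` then `ρ(λ^i x) = e_i(E)`. -/
theorem map_lam_eq_esymm (ρ : K →+* S) {m : ℕ} (E : Fin m → S) (x : K)
    (h : ∀ j, 1 ≤ j → ρ (adams P j x) = ∑ l : Fin m, E l ^ j) (i : ℕ) :
    ρ (LambdaOps.lam i x) =
      ∑ t ∈ (Finset.univ : Finset (Fin m)).powersetCard i, ∏ l ∈ t, E l := by
  classical
  have : IsAddTorsionFree S := IsAddTorsionFree.of_module_rat S
  have hc : PowerSeries.constantCoeff (lamSeries x) = 1 := by
    rw [← PowerSeries.coeff_zero_eq_constantCoeff_apply, lamSeries, PowerSeries.coeff_mk,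
      LambdaOps.lam_zero]
  have hA : PowerSeries.constantCoeff (PowerSeries.map ρ (lamSeries x)) = 1 := by
    rw [← PowerSeries.coeff_zero_eq_constantCoeff_apply, PowerSeries.coeff_map,
      PowerSeries.coeff_zero_eq_constantCoeff_apply, hc, map_one]
  have hB : PowerSeries.constantCoeff
      (∏ l : Fin m, (1 + PowerSeries.C (E l) * PowerSeries.X : PowerSeries S)) = 1 :=
    constantCoeff_prod_eq_one _ _ (fun i _ => by simp)
  have h1 := coeff_eq_of_newton_eq hA hB i (fun j hj _ => by
    rw [← map_newton ρ j hc, ← adams_eq_newton (P := P) j hj, h j hj,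
      newton_prod_one_add_C_mul_X _ _ _ hj]) i le_rfl
  rw [← coeff_prod_one_add_C_mul_X, ← h1, PowerSeries.coeff_map, lamSeries, PowerSeries.coeff_mk]

end L3

section Core

variable {A : Type v} [CommRing A] [Algebra ℚ A]
variable {S : Type v} [CommRing S] [Algebra ℚ S] (φ : A →+* S) {m : ℕ} (ξ : Fin m → S)
variable (Ser : PowerSeries A) (hSer0 : PowerSeries.constantCoeff Ser = 1)
  (hser : PowerSeries.map φ Ser = ∏ l : Fin m, (1 + PowerSeries.C (ξ l) * PowerSeries.X))
variable (d : ℕ) (hnewt : ∀ k, d < k → newton k Ser = 0)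

include hSer0 hser hnewt in
/-- the root computation: `φ(td · ch y) = ∏ ξ_l` whenever `γ^m(e - m) = y · λ^m e`. -/
theorem core_td (hnil : ∀ l, IsNilpotent (ξ l)) (r : ℕ) (hdm : d = m + r)
    (c : Fin d → A) (hc : ∀ i : Fin d, c i = PowerSeries.coeff ((i : ℕ) + 1) Ser)
    {K : Type*} [CommRing K] [LambdaOps K] (P : PosStructure K) (ch : K →+* A) (e y : K)
    (hch : ∀ j, 1 ≤ j → ch (adams P j e) = algebraMap ℚ A (m : ℚ) + ∑ k ∈ range d,
        ((j : ℚ) ^ (k + 1) / ((k + 1).factorial : ℚ)) • newton (k + 1) Ser)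
    (hy : ∑ i ∈ range (m + 1), LambdaOps.lam i e * (-1) ^ (m - i) = y * LambdaOps.lam m e) :
    φ (MvPolynomial.aeval c (KGr.toddPoly d) * ch y) = ∏ l : Fin m, ξ l := by
  classical
  obtain ⟨n, hn⟩ := exists_pow_eq_zero_of_fin ξ hnil
  have hN : ∀ l, ξ l ^ (d + n + 1) = 0 := fun l => pow_eq_zero_of_le (by omega) (hn l)
  set E : Fin m → S := fun l => nilEval (ξ l) (d + n) (hN l) (PowerSeries.exp ℚ) with hE
  have hpow : ∀ j, 1 ≤ j → (φ.comp ch) (adams P j e) = ∑ l, E l ^ j := by
    intro j hj
    rw [RingHom.comp_apply, hch j hj]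
    exact (sum_exp_pow φ ξ Ser hSer0 hser d hnewt (d + n) hN n rfl j).symm
  have hesymm := map_lam_eq_esymm P (φ.comp ch) E e hpow
  have hW : (φ.comp ch) (LambdaOps.lam m e) = ∏ l, E l := by
    rw [hesymm m]
    have h1 : (Finset.univ : Finset (Fin m)).powersetCard m = {Finset.univ} := by
      have h2 := Finset.powersetCard_self (Finset.univ : Finset (Fin m))
      rwa [Finset.card_univ, Fintype.card_fin] at h2
    rw [h1, Finset.sum_singleton]
  have hYW : (φ.comp ch) y * ∏ l, E l = ∏ l, (E l - 1) := by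
    rw [← hW, ← map_mul, ← hy, map_sum, prod_sub_one_eq]
    refine Finset.sum_congr rfl fun i _ => ?_
    rw [map_mul, map_pow, map_neg, map_one, hesymm i]
  have hunit : IsUnit (∏ l, E l) :=
    IsUnit.prod_univ_iff.mpr fun l => isUnit_nilEval_exp _ _ _
  have htd : φ (MvPolynomial.aeval c (KGr.toddPoly d)) =
      ∏ l : Fin m, Polynomial.aeval (ξ l) (KGr.toddTrunc d) :=
    map_aeval_toddPoly φ ξ Ser hser d r hdm c hc
  have hcorr := prod_nilEval_toddCorr φ ξ Ser hSer0 hser d hnewt (d + n) hN
  have key : φ (MvPolynomial.aeval c (KGr.toddPoly d) * ch y) * ∏ l, E l =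
      (∏ l, ξ l) * ∏ l, E l := by
    have h3 : φ (ch y) = (φ.comp ch) y := rfl
    rw [map_mul, mul_assoc, h3, hYW, htd, ← Finset.prod_mul_distrib]
    have h4 : ∀ l : Fin m, Polynomial.aeval (ξ l) (KGr.toddTrunc d) * (E l - 1) =
        ξ l * E l * nilEval (ξ l) (d + n) (hN l) (toddCorr d) :=
      fun l => aeval_toddTrunc_mul (ξ l) (d + n) (hN l) d
    rw [Finset.prod_congr rfl fun l _ => h4 l, Finset.prod_mul_distrib, Finset.prod_mul_distrib,
      hcorr, mul_one]
  exact hunit.mul_right_cancel key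

end Core


section Roots2

/-- roots of a monic polynomial in a free (hence faithful) extension. -/
theorem exists_roots {A : Type v} [CommRing A] [Nontrivial A] (m : ℕ) (a : ℕ → A) (h0 : a 0 = 1) :
    ∃ (S : Type v) (_ : CommRing S) (φ : A →+* S) (ξ : Fin m → S), Function.Injective φ ∧
      (∑ i ∈ range (m + 1), Polynomial.C (a i) * Polynomial.X ^ (m - i)).map φ =
        ∏ l : Fin m, (Polynomial.X + Polynomial.C (ξ l)) := by
  obtain ⟨hmonic, hdeg⟩ := monic_sum_C_mul_X_pow_sub m a h0
  obtain ⟨S, _, _, _, _, _, hsplit⟩ := hmonic.exists_splits_map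
  obtain ⟨ms, hms⟩ := Polynomial.splits_iff_exists_multiset'.mp hsplit
  rw [(hmonic.map (algebraMap A S)).leadingCoeff, map_one, one_mul] at hms
  have hcard : (ms.map (fun r => Polynomial.X + Polynomial.C r)).prod.natDegree =
      Multiset.card ms := by
    rw [Polynomial.natDegree_multiset_prod_of_monic, Multiset.map_map]
    · simp
    · exact Multiset.forall_mem_map_iff.2 fun a _ => Polynomial.monic_X_add_C a
  have hcm : Multiset.card ms = m := by
    rw [← hcard, ← hms, hmonic.natDegree_map, hdeg]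
  obtain ⟨ξ, hξ⟩ := exists_fin_of_card ms m hcm
  refine ⟨S, inferInstance, algebraMap A S, ξ, FaithfulSMul.algebraMap_injective A S, ?_⟩
  rw [hms, hξ, Multiset.map_map]
  rfl

end Roots2

section Final

variable {K : Type v} [CommRing K] [LambdaOps K] (P : PosStructure K)

include P in
/-- `γ^m(e - m) = Σ_i (-1)^{m-i} λ^i(e)` for `λ^i e = 0`, `i > m`. -/
theorem gamma_top_eq (x : K) (m : ℕ) (h : ∀ i, m < i → LambdaOps.lam i x = 0) :
    gamma m (x - (m : K)) = ∑ i ∈ range (m + 1), LambdaOps.lam i x * (-1) ^ (m - i) := by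
  have h1 := congrArg (Polynomial.eval 0) (gamma_sub_aug_identity P x m h)
  simp only [Polynomial.eval_finsetSum, Polynomial.eval_mul, Polynomial.eval_C, Polynomial.eval_pow,
    Polynomial.eval_X, Polynomial.eval_sub, Polynomial.eval_one, zero_sub] at h1
  rw [← h1, Finset.sum_eq_single m]
  · rw [Nat.sub_self, pow_zero, mul_one]
  · intro i hi him
    have := mem_range.mp hi
    rw [zero_pow (by omega), mul_zero]
  · intro hm
    exact absurd (mem_range.mpr (Nat.lt_succ_self m)) hm

/-- the main identity, given `γ^m(e - m) = y · λ^m e`. -/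
theorem tdK_mul_chK_eq_chern_top (hK : HasSplitting K P) (d : ℕ)
    (hd : gammaFiltration P (d + 1) = ⊥) (e : K) (he : e ∈ P.pos) (y : K)
    (hy : gamma (P.aug e).toNat (e - ((P.aug e).toNat : K)) =
      y * LambdaOps.lam (P.aug e).toNat e) :
    KGr.tdK P d e * KGr.chK P d y = KGr.chern P (P.aug e).toNat e := by
  classical
  have hunit : IsUnit (LambdaOps.lam (P.aug e).toNat e) := P.isUnit_lam e he
  have hchz : ∀ i, (P.aug e).toNat < i → KGr.chern P i e = 0 :=
    fun i hi => chern_eq_zero_of_aug_lt e he i hi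
  have haug : P.aug e = (((P.aug e).toNat : ℕ) : ℤ) :=
    (Int.toNat_of_nonneg (P.aug_pos e he).le).symm
  generalize (P.aug e).toNat = m at hy hunit hchz haug ⊢
  have hlam : ∀ i, m < i → LambdaOps.lam i e = 0 := by
    intro i hi
    apply P.lam_eq_zero e he i
    rw [haug]
    exact_mod_cast hi
  rcases lt_or_ge d m with hdm | hdm
  · -- `d < m`: both sides vanish
    have hz : gamma m (e - (m : K)) = 0 := by
      have h1 : gamma m (red P e) ∈ gammaFiltration P (d + 1) :=
        gammaFiltration_antitone P (by omega) (gamma_red_mem P e m)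
      rw [hd, AddSubgroup.mem_bot] at h1
      have h2 : red P e = e - (m : K) := by rw [red, haug, Int.cast_natCast]
      rwa [h2] at h1
    rw [hz] at hy
    have hy0 : y = 0 := (hunit.mul_left_eq_zero).mp hy.symm
    have h0 : KGr.chK P d (0 : K) = 0 := (chHom P d).map_zero
    rw [hy0, chern_eq_zero_of_lt d hd e m hdm, h0, mul_zero]
  · obtain ⟨r, rfl⟩ : ∃ r, d = m + r := ⟨d - m, by omega⟩
    rcases subsingleton_or_nontrivial (KGr.Gr P) with hsub | hnt
    · exact Subsingleton.elim _ _
    · have ha0 : KGr.chern P 0 e = 1 := by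
        rw [← coeff_chernSer, PowerSeries.coeff_zero_eq_constantCoeff_apply, constantCoeff_chernSer]
      obtain ⟨S, _, φ, ξ, hinj, hpoly⟩ := exists_roots m (fun i => KGr.chern P i e) ha0
      let _ : Algebra ℚ S := (φ.comp (algebraMap ℚ (KGr.Gr P))).toAlgebra
      have hser := map_ser_eq_prod φ m (fun i => KGr.chern P i e) ξ hpoly (chernSer P e)
        (coeff_chernSer P e) hchz
      have hnil : ∀ l, IsNilpotent (ξ l) := by
        refine isNilpotent_of_prod_X_add_C m (fun i => φ (KGr.chern P i e))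
          (fun i hi => (isNilpotent_chern (m + r) hd e i hi).map φ) (by rw [ha0, map_one]) ξ ?_
        rw [← hpoly, Polynomial.map_sum]
        refine Finset.sum_congr rfl fun i _ => ?_
        rw [Polynomial.map_mul, Polynomial.map_pow, Polynomial.map_C, Polynomial.map_X]
      have hcore := core_td φ ξ (chernSer P e) (constantCoeff_chernSer P e) hser (m + r)
        (newton_chernSer_eq_zero (m + r) hd e) hnil r rfl
        (fun i : Fin (m + r) => KGr.chern P (i.1 + 1) e)
        (fun i => (coeff_chernSer P e _).symm) P (chRingHom hK (m + r) hd) e y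
        (fun j hj => by rw [chRingHom_apply, chK_adams hK, haug, Int.cast_natCast])
        (by rw [← gamma_top_eq P e m hlam]; exact hy)
      apply hinj
      have h6 : KGr.tdK P (m + r) e * KGr.chK P (m + r) y =
          MvPolynomial.aeval (fun i : Fin (m + r) => KGr.chern P (i.1 + 1) e)
            (KGr.toddPoly (m + r)) * chRingHom hK (m + r) hd y := rfl
      rw [h6, hcore]
      have h5 := congrArg (PowerSeries.coeff m) hser
      rw [PowerSeries.coeff_map, coeff_chernSer, coeff_prod_one_add_C_mul_X] at h5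
      have h1 : (Finset.univ : Finset (Fin m)).powersetCard m = {Finset.univ} := by
        have h2 := Finset.powersetCard_self (Finset.univ : Finset (Fin m))
        rwa [Finset.card_univ, Fintype.card_fin] at h2
      rw [h1, Finset.sum_singleton] at h5
      exact h5.symm

end Final


end Groth.Agent.Lib.Helper16.KGr
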